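import Groth.Agent.L14.Quot.Sub
import Groth.Agent.L17.BC.PullSec
import Groth.Agent.L17.ClosedPush
import Groth.Agent.L16.AffineBC.Pullback
import Groth.Agent.L00.LocalData
import Groth.Prelude.Def_FGA

/-!
# Pullback of quotients: functoriality and stalks
-/

set_option autoImplicit false
set_option linter.style.haveILetI false
set_option backward.isDefEq.respectTransparency false
set_option backward.isDefEq.respectTransparency.types false

universe u

open CategoryTheory CategoryTheory.Limits AlgebraicGeometry TopologicalSpace Opposite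
open scoped TensorProduct

noncomputable section

namespace Groth.L14.Quot

open Groth.L29.DC.RelBC (isFlatOver_of_iso isFlatOver_pullback)
open Groth.L18.Frame (rs rs_rs rs_self pull pull_rs)
open Groth.L17.BC.PullSec (comp_pull congr_pull app_rs map_pull)

variable {X Y : Scheme.{u}}

/-- Pulling an element of a stalk back. -/
def pmAdd (h : X ⟶ Y) (N : Y.Modules) (x : X) :
    (Groth.L00.Stk.F Y (h x)).obj N →+ (Groth.L00.Stk.F X x).obj ((Scheme.Modules.pullback h).obj N) :=
  AddMonoidHom.comp (Groth.L17.ClosedPush.c₀ h ((Scheme.Modules.pullback h).obj N) x)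
    (stMapₗ ((Scheme.Modules.pullbackPushforwardAdjunction h).unit.app N) (h x)).toAddMonoidHom

/-- Pulling an element of a stalk back, semilinearly. -/
def pm (h : X ⟶ Y) (N : Y.Modules) (x : X) :
    (Groth.L00.Stk.F Y (h x)).obj N →ₛₗ[(h.stalkMap x).hom]
      (Groth.L00.Stk.F X x).obj ((Scheme.Modules.pullback h).obj N) where
  toFun := pmAdd h N x
  map_add' := map_add _
  map_smul' r q := by
    show Groth.L17.ClosedPush.c₀ h _ x (stMapₗ _ (h x) (r • q)) = _
    rw [map_smul]
    exact Groth.L17.ClosedPush.c₀_smul h _ x r _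

theorem pm_natural (h : X ⟶ Y) {M N : Y.Modules} (a : M ⟶ N) (x : X) (q : (Groth.L00.Stk.F Y (h x)).obj M) :
    stMapₗ ((Scheme.Modules.pullback h).map a) x (pm h M x q) = pm h N x (stMapₗ a (h x) q) := by
  obtain ⟨V, hV, m, rfl⟩ := Groth.L00.StalkTensor.exists_germ (Groth.L00.Tensor.pre M) (h x) q
  have e1 : ∀ (N : Y.Modules) (n : Γ(N, V)), pm h N x (Groth.L00.StalkTensor.germ (Groth.L00.Tensor.pre N) (h x) hV n) =
      Groth.L00.StalkTensor.germ (Groth.L00.Tensor.pre ((Scheme.Modules.pullback h).obj N)) x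
        (show x ∈ h ⁻¹ᵁ V from hV) (pull h N V n) := fun N n =>
    (congrArg (Groth.L17.ClosedPush.c₀ h _ x)
      (Groth.L17.ClosedPush.stk_map_germ ((Scheme.Modules.pullbackPushforwardAdjunction h).unit.app N) (h x) hV n)).trans
      (Groth.L17.ClosedPush.c₀_germ h _ x hV _)
  rw [e1]
  refine (Groth.L17.ClosedPush.stk_map_germ ((Scheme.Modules.pullback h).map a) x (show x ∈ h ⁻¹ᵁ V from hV) _).trans ?_
  refine ((congrArg (Groth.L00.StalkTensor.germ (Groth.L00.Tensor.pre ((Scheme.Modules.pullback h).obj N)) x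
    (show x ∈ h ⁻¹ᵁ V from hV)) (map_pull h a V m)).trans (e1 N _).symm).trans ?_
  exact congrArg (pm h N x) (Groth.L17.ClosedPush.stk_map_germ a (h x) hV m).symm

theorem span_pm (h : X ⟶ Y) (N : Y.Modules) (x : X) :
    Submodule.span (X.presheaf.stalk x) (Set.range (pm h N x)) = ⊤ := by
  let e := ((Groth.L00.PullStalk.stalkIso h x).app N).toLinearEquiv
  apply Submodule.map_injective_of_injective (f := e.toLinearMap) e.injective
  rw [Submodule.map_span, Submodule.map_top, LinearEquiv.range, ← Set.range_comp]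
  letI := (h.stalkMap x).hom.toAlgebra
  refine le_antisymm le_top fun z _ => ?_
  let z' : TensorProduct (Y.presheaf.stalk (h x)) (X.presheaf.stalk x) ((Groth.L00.Stk.F Y (h x)).obj N) := z
  show z' ∈ _
  induction z' using TensorProduct.induction_on with
  | zero => exact zero_mem _
  | tmul a q =>
    rw [← mul_one a, ← smul_eq_mul, ← TensorProduct.smul_tmul']
    refine Submodule.smul_mem _ a (Submodule.subset_span ⟨q, ?_⟩)
    obtain ⟨V, hV, n, rfl⟩ := Groth.L00.StalkTensor.exists_germ (Groth.L00.Tensor.pre N) (h x) q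
    refine (congrArg e ((congrArg (Groth.L17.ClosedPush.c₀ h _ x)
      (Groth.L17.ClosedPush.stk_map_germ ((Scheme.Modules.pullbackPushforwardAdjunction h).unit.app N) (h x) hV n)).trans
        (Groth.L17.ClosedPush.c₀_germ h _ x hV _))).trans ?_
    exact Groth.L17.ClosedPush.stalkIso_unit_germ h N x hV n
  | add a b ha hb => exact add_mem ha hb

theorem pm_surjective (h : X ⟶ Y) [IsClosedImmersion h] (N : Y.Modules) (x : X) :
    Function.Surjective (pm h N x) := fun z => by
  haveI : RingHomSurjective (h.stalkMap x).hom := ⟨h.stalkMap_surjective x⟩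
  have := (span_pm h N x).ge (Submodule.mem_top (x := z))
  rwa [← LinearMap.coe_range, Submodule.span_eq] at this

theorem pm_apply_stalkIso (h : X ⟶ Y) (N : Y.Modules) (x : X) (q : (Groth.L00.Stk.F Y (h x)).obj N) :
    ((Groth.L00.PullStalk.stalkIso h x).hom.app N) (pm h N x q) =
      (ModuleCat.extendRestrictScalarsAdj (Groth.L00.PullStalk.φ h x)).unit.app ((Groth.L00.Stk.F Y (h x)).obj N) q := by
  obtain ⟨V, hV, n, rfl⟩ := Groth.L00.StalkTensor.exists_germ (Groth.L00.Tensor.pre N) (h x) q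
  refine (congrArg ((Groth.L00.PullStalk.stalkIso h x).hom.app N) ((congrArg (Groth.L17.ClosedPush.c₀ h _ x)
    (Groth.L17.ClosedPush.stk_map_germ ((Scheme.Modules.pullbackPushforwardAdjunction h).unit.app N) (h x) hV n)).trans
      (Groth.L17.ClosedPush.c₀_germ h _ x hV _))).trans ?_
  exact Groth.L17.ClosedPush.stalkIso_unit_germ h N x hV n

theorem mem_of_mk_one_eq_zero {R S M : Type u} [CommRing R] [CommRing S] [Algebra R S] [AddCommGroup M] [Module R M]
    (hs : Function.Surjective (algebraMap R S)) {q : M} (hq : (1 : S) ⊗ₜ[R] q = 0) :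
    q ∈ RingHom.ker (algebraMap R S) • (⊤ : Submodule R M) := by
  let K : Submodule R R := RingHom.ker (algebraMap R S)
  have hex : Function.Exact K.subtype (Algebra.linearMap R S) := fun r =>
    ⟨fun h => ⟨⟨r, h⟩, rfl⟩, fun ⟨k, hk⟩ => hk ▸ k.2⟩
  obtain ⟨w, hw⟩ := (rTensor_exact M hex hs _).1
    (show (Algebra.linearMap R S).rTensor M ((1 : R) ⊗ₜ[R] q) = 0 by
      rw [LinearMap.rTensor_tmul, Algebra.linearMap_apply, map_one]; exact hq)
  have hz : ∀ w : K ⊗[R] M, TensorProduct.lid R M (K.subtype.rTensor M w) ∈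
      RingHom.ker (algebraMap R S) • (⊤ : Submodule R M) := fun w => by
    induction w using TensorProduct.induction_on with
    | zero => simp
    | tmul k m => simpa using Submodule.smul_mem_smul (N := (⊤ : Submodule R M)) k.2 (Submodule.mem_top (x := m))
    | add a b ha hb => simp only [map_add]; exact add_mem ha hb
  have := hz w
  rwa [hw, TensorProduct.lid_tmul, one_smul] at this

theorem pm_eq_zero_iff (h : X ⟶ Y) [IsClosedImmersion h] (N : Y.Modules) (x : X)
    (q : (Groth.L00.Stk.F Y (h x)).obj N) :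
    pm h N x q = 0 ↔ q ∈ RingHom.ker (h.stalkMap x).hom • (⊤ : Submodule (Y.presheaf.stalk (h x)) _) := by
  constructor
  · intro hq
    have h1 := pm_apply_stalkIso h N x q
    rw [hq, map_zero] at h1
    letI := (h.stalkMap x).hom.toAlgebra
    exact mem_of_mk_one_eq_zero (S := X.presheaf.stalk x) (h.stalkMap_surjective x) h1.symm
  · intro hq
    refine Submodule.smul_induction_on hq (fun r hr v _ => ?_) (fun a b ha hb => by rw [map_add, ha, hb, add_zero])
    rw [LinearMap.map_smulₛₗ, RingHom.mem_ker.1 hr, zero_smul]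

theorem hom_ext_pull (h : X ⟶ Y) {N : Y.Modules} {M : X.Modules}
    {a b : (Scheme.Modules.pullback h).obj N ⟶ M}
    (hab : ∀ (V : Y.Opens) (m : Γ(N, V)), a.app (h ⁻¹ᵁ V) (pull h N V m) = b.app (h ⁻¹ᵁ V) (pull h N V m)) :
    a = b := by
  refine ((Scheme.Modules.pullbackPushforwardAdjunction h).homEquiv N M).injective ?_
  rw [Adjunction.homEquiv_unit, Adjunction.homEquiv_unit]
  apply Scheme.Modules.hom_ext
  intro V
  ext m
  exact hab V m

theorem hom_ext_pull_pull {Z : Scheme.{u}} (f : X ⟶ Y) (g : Y ⟶ Z) {N : Z.Modules} {M : X.Modules}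
    {a b : (Scheme.Modules.pullback f).obj ((Scheme.Modules.pullback g).obj N) ⟶ M}
    (hab : ∀ (V : Z.Opens) (m : Γ(N, V)), a.app (f ⁻¹ᵁ (g ⁻¹ᵁ V)) (pull f _ _ (pull g N V m)) =
      b.app (f ⁻¹ᵁ (g ⁻¹ᵁ V)) (pull f _ _ (pull g N V m))) :
    a = b := by
  refine ((Scheme.Modules.pullbackPushforwardAdjunction f).homEquiv _ M).injective (hom_ext_pull g fun V m => ?_)
  rw [Adjunction.homEquiv_unit, Adjunction.homEquiv_unit]
  exact hab V m

theorem imageSubobject_epi_comp {C : Type*} [Category C] [Abelian C] {A B D : C} (e : A ⟶ B) [Epi e] (f : B ⟶ D) :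
    imageSubobject (e ≫ f) = imageSubobject f := by
  haveI : Epi (Subobject.ofLE _ _ (imageSubobject_comp_le e f)) := imageSubobject_comp_le_epi_of_epi e f
  haveI : IsIso (Subobject.ofLE _ _ (imageSubobject_comp_le e f)) := isIso_of_mono_of_epi _
  exact le_antisymm (imageSubobject_comp_le e f)
    (Subobject.le_of_comm (CategoryTheory.inv (Subobject.ofLE _ _ (imageSubobject_comp_le e f))) (by
      rw [IsIso.inv_comp_eq, Subobject.ofLE_arrow]))

theorem isCoh_of_iso {F G : X.Modules} (e : F ≅ G) (h : Coh.IsCoh F) : Coh.IsCoh G := by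
  have : Coh.IsQCoh F := h.1
  refine ⟨(SheafOfModules.isQuasicoherent X.ringCatSheaf).prop_of_iso e h.1,
    Groth.L00.Local.isFT_of_generators G fun x => ?_⟩
  obtain ⟨U, σ, hxU, hσ⟩ := Groth.L00.Local.exists_generators_of_isFT F h.2 x
  exact ⟨U, σ.ofEpi ((Scheme.Modules.restrictFunctor U.ι).mapIso e).hom, hxU, hσ⟩

section Quot

variable {S : Scheme.{u}} (f : X ⟶ S) (E : X.Modules) {T T' T'' : Over S}

theorem XTmap_comp' (g : T'' ⟶ T') (g' : T' ⟶ T) :
    PicF.XTmap f (g ≫ g') = PicF.XTmap f g ≫ PicF.XTmap f g' := by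
  apply pullback.hom_ext <;> simp [PicF.XTmap]

theorem isPullback_XTmap (g : T' ⟶ T) :
    IsPullback (PicF.XTmap f g) (PicF.XTproj f T') (PicF.XTproj f T) g.left := by
  refine IsPullback.of_right ?_ (pullback.lift_snd _ _ _) (IsPullback.of_hasPullback f T.hom)
  have e1 : PicF.XTmap f g ≫ pullback.fst f T.hom = pullback.fst f T'.hom := by
    rw [PicF.XTmap, pullback.lift_fst, Category.comp_id]
  rw [e1, Over.w g]
  exact IsPullback.of_hasPullback f T'.hom

set_option maxHeartbeats 1000000 in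
theorem ETiso_pull (g : T' ⟶ T) (V : X.Opens) (e : Γ(E, V))
    (hle : PicF.XTmap f g ⁻¹ᵁ (pullback.fst f T.hom ⁻¹ᵁ V) ≤ pullback.fst f T'.hom ⁻¹ᵁ V) :
    (FGA.ETiso f E g).hom.app (PicF.XTmap f g ⁻¹ᵁ (pullback.fst f T.hom ⁻¹ᵁ V))
        (pull (PicF.XTmap f g) _ _ (pull (pullback.fst f T.hom) E V e)) =
      rs (FGA.ET f E T') hle (pull (pullback.fst f T'.hom) E V e) := by
  unfold FGA.ETiso
  rw [Iso.trans_hom, Iso.app_hom, Iso.app_hom, Scheme.Modules.Hom.comp_app, ConcreteCategory.comp_apply]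
  refine (congrArg _ (comp_pull (PicF.XTmap f g) (pullback.fst f T.hom) E V e)).trans ?_
  have h := congr_pull (FGA.XTmap_fst f g) E V e
    (PicF.XTmap f g ⁻¹ᵁ (pullback.fst f T.hom ⁻¹ᵁ V)) le_rfl hle
  rw [rs_self] at h
  exact h

theorem pull_pull_rs (h : X ⟶ Y) (N : Y.Modules) {V W : Y.Opens} (hle : W ≤ V) (m : Γ(N, V)) :
    pull h N W (rs N hle m) = rs _ (h.preimage_mono hle) (pull h N V m) := (pull_rs h N hle m).symm

/-- The comparisons of `E` on base changes compose. -/
theorem ETiso_comp (g : T'' ⟶ T') (g' : T' ⟶ T) :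
    (Scheme.Modules.pullback (PicF.XTmap f g)).map (FGA.ETiso f E g').hom ≫ (FGA.ETiso f E g).hom =
      (Scheme.Modules.pullbackComp (PicF.XTmap f g) (PicF.XTmap f g')).hom.app (FGA.ET f E T) ≫
        (Scheme.Modules.pullbackCongr (XTmap_comp' f g g').symm).hom.app (FGA.ET f E T) ≫
          (FGA.ETiso f E (g ≫ g')).hom := by
  refine ((Scheme.Modules.pullbackPushforwardAdjunction (PicF.XTmap f g)).homEquiv _ _).injective ?_
  refine hom_ext_pull_pull (PicF.XTmap f g') (pullback.fst f T.hom) fun V e => ?_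
  rw [Adjunction.homEquiv_unit, Adjunction.homEquiv_unit]
  let W := pullback.fst f T.hom ⁻¹ᵁ V
  let m : Γ(FGA.ET f E T, W) := pull (pullback.fst f T.hom) E V e
  let U := PicF.XTmap f g ⁻¹ᵁ (PicF.XTmap f g' ⁻¹ᵁ W)
  have hle' : PicF.XTmap f g' ⁻¹ᵁ W ≤ pullback.fst f T'.hom ⁻¹ᵁ V :=
    (congrArg (fun k => k ⁻¹ᵁ V) (FGA.XTmap_fst f g')).le
  have hU : U ≤ PicF.XTmap f (g ≫ g') ⁻¹ᵁ W := (congrArg (fun k => k ⁻¹ᵁ W) (XTmap_comp' f g g').symm).le
  have hle'' : U ≤ pullback.fst f T''.hom ⁻¹ᵁ V :=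
    ((PicF.XTmap f g).preimage_mono hle').trans (congrArg (fun k => k ⁻¹ᵁ V) (FGA.XTmap_fst f g)).le
  show (FGA.ETiso f E g).hom.app U (((Scheme.Modules.pullback (PicF.XTmap f g)).map (FGA.ETiso f E g').hom).app U
      (pull (PicF.XTmap f g) _ _ (pull (PicF.XTmap f g') _ W m))) =
    (FGA.ETiso f E (g ≫ g')).hom.app U (((Scheme.Modules.pullbackCongr (XTmap_comp' f g g').symm).hom.app _).app U
      (((Scheme.Modules.pullbackComp (PicF.XTmap f g) (PicF.XTmap f g')).hom.app _).app U
        (pull (PicF.XTmap f g) _ _ (pull (PicF.XTmap f g') _ W m))))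
  rw [map_pull, ETiso_pull f E g' V e hle', pull_pull_rs, app_rs,
    ETiso_pull f E g V e (congrArg (fun k => k ⁻¹ᵁ V) (FGA.XTmap_fst f g)).le, rs_rs, comp_pull]
  have h := congr_pull (XTmap_comp' f g g').symm (FGA.ET f E T) W m U le_rfl hU
  rw [rs_self] at h
  refine Eq.trans ?_ (congrArg ((FGA.ETiso f E (g ≫ g')).hom.app U) h).symm
  rw [app_rs, ETiso_pull f E (g ≫ g') V e (congrArg (fun k => k ⁻¹ᵁ V) (FGA.XTmap_fst f (g ≫ g'))).le, rs_rs]

theorem epi_pullback_map (h : X ⟶ Y) {M N : Y.Modules} (a : M ⟶ N) [Epi a] :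
    Epi ((Scheme.Modules.pullback h).map a) :=
  haveI := (Scheme.Modules.pullbackPushforwardAdjunction h).isLeftAdjoint
  inferInstance

theorem quotPull_comp (g : T'' ⟶ T') (g' : T' ⟶ T) (K : Subobject (FGA.ET f E T)) :
    FGA.quotPull f E (g ≫ g') K = FGA.quotPull f E g (FGA.quotPull f E g' K) := by
  have h1 : (Scheme.Modules.pullback (PicF.XTmap f g)).map
      ((Scheme.Modules.pullback (PicF.XTmap f g')).map K.arrow ≫ (FGA.ETiso f E g').hom) ≫ (FGA.ETiso f E g).hom =
      ((Scheme.Modules.pullbackComp (PicF.XTmap f g) (PicF.XTmap f g')).hom.app _ ≫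
        (Scheme.Modules.pullbackCongr (XTmap_comp' f g g').symm).hom.app _) ≫
      ((Scheme.Modules.pullback (PicF.XTmap f (g ≫ g'))).map K.arrow ≫ (FGA.ETiso f E (g ≫ g')).hom) := by
    rw [Functor.map_comp, Category.assoc, ETiso_comp]
    simp only [Category.assoc, ← NatTrans.naturality_assoc]
    rfl
  unfold FGA.quotPull
  rw [← imageSubobject_epi_comp (((Scheme.Modules.pullbackComp (PicF.XTmap f g) (PicF.XTmap f g')).hom.app _) ≫
    (Scheme.Modules.pullbackCongr (XTmap_comp' f g g').symm).hom.app _), ← h1]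
  conv_lhs => rw [← imageSubobject_arrow_comp
    ((Scheme.Modules.pullback (PicF.XTmap f g')).map K.arrow ≫ (FGA.ETiso f E g').hom)]
  rw [Functor.map_comp, Category.assoc]
  haveI := epi_pullback_map (PicF.XTmap f g)
    (factorThruImageSubobject ((Scheme.Modules.pullback (PicF.XTmap f g')).map K.arrow ≫ (FGA.ETiso f E g').hom))
  exact imageSubobject_epi_comp _ _

/-- The transition map on stalks of base changes of `E`. -/
def pmE (g : T' ⟶ T) (w : PicF.XT f T') :
    (Groth.L00.Stk.F (PicF.XT f T) (PicF.XTmap f g w)).obj (FGA.ET f E T) →ₛₗ[((PicF.XTmap f g).stalkMap w).hom]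
      (Groth.L00.Stk.F (PicF.XT f T') w).obj (FGA.ET f E T') :=
  (stMapₗ (FGA.ETiso f E g).hom w).comp (pm (PicF.XTmap f g) (FGA.ET f E T) w)

theorem stR_quotPull (g : T' ⟶ T) (K : Subobject (FGA.ET f E T)) (w : PicF.XT f T') :
    stR (FGA.quotPull f E g K) w =
      Submodule.span _ (pmE f E g w '' (stR K (PicF.XTmap f g w) : Set _)) := by
  rw [FGA.quotPull, stR_image, stMapₗ_comp, LinearMap.range_comp, ← Submodule.map_top, ← span_pm,
    Submodule.map_span, Submodule.map_span, ← Set.range_comp, ← Set.range_comp]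
  refine congrArg _ (Set.ext fun z => ⟨?_, ?_⟩)
  · rintro ⟨q, rfl⟩
    exact ⟨_, ⟨q, rfl⟩, (congrArg (stMapₗ (FGA.ETiso f E g).hom w) (pm_natural _ K.arrow w q)).symm⟩
  · rintro ⟨_, ⟨q, rfl⟩, rfl⟩
    exact ⟨q, congrArg (stMapₗ (FGA.ETiso f E g).hom w) (pm_natural _ K.arrow w q)⟩

theorem pmE_surjective (g : T' ⟶ T) [IsClosedImmersion (PicF.XTmap f g)] (w : PicF.XT f T') :
    Function.Surjective (pmE f E g w) :=
  (stMapₗ_surjective _ w).comp (pm_surjective _ _ w)

theorem nonempty_cokernel_iso (g : T' ⟶ T) (K : Subobject (FGA.ET f E T)) :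
    Nonempty ((Scheme.Modules.pullback (PicF.XTmap f g)).obj (cokernel K.arrow) ≅
      cokernel (FGA.quotPull f E g K).arrow) := by
  haveI := (Scheme.Modules.pullbackPushforwardAdjunction (PicF.XTmap f g)).isLeftAdjoint
  let a := (Scheme.Modules.pullback (PicF.XTmap f g)).map K.arrow ≫ (FGA.ETiso f E g).hom
  exact ⟨PreservesCokernel.iso _ K.arrow ≪≫ (cokernelCompIsIso _ (FGA.ETiso f E g).hom).symm ≪≫
    cokernelIsoOfEq (imageSubobject_arrow_comp a).symm ≪≫ cokernelEpiComp _ _⟩

theorem quotPull_mem (g : T' ⟶ T) (K : FGA.QuotSet f E T) :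
    Coh.IsCoh (cokernel (FGA.quotPull f E g K.1).arrow) ∧
      FlatMod.IsFlatOver (PicF.XTproj f T') (cokernel (FGA.quotPull f E g K.1).arrow) := by
  obtain ⟨e⟩ := nonempty_cokernel_iso f E g K.1
  exact ⟨isCoh_of_iso e (Groth.L16.AffineBC.isCoh_pullback _ K.2.1),
    isFlatOver_of_iso _ e (isFlatOver_pullback (isPullback_XTmap f g) K.2.2)⟩

end Quot

end Groth.L14.Quot
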