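import Groth.Agent.L14.Quot.Small
import Groth.Agent.L16.QcqsPush
import Groth.Agent.L29.DCoh.QCohOps

/-!
# Lifts of a quotient to a small extension and retractions of the associated extension
-/

set_option autoImplicit false
set_option linter.style.haveILetI false
set_option linter.unusedSectionVars false
set_option backward.isDefEq.respectTransparency false
set_option backward.isDefEq.respectTransparency.types false

universe u

open CategoryTheory CategoryTheory.Limits AlgebraicGeometry TopologicalSpace Opposite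

noncomputable section

namespace Groth.L14.Quot

theorem isFT_of_epi {X : Scheme.{u}} {M N : X.Modules} (a : M ⟶ N) [Epi a] (h : CohB1.IsFT M) :
    CohB1.IsFT N := by
  refine Groth.L00.Local.isFT_of_generators N fun x => ?_
  obtain ⟨U, σ, hxU, hσ⟩ := Groth.L00.Local.exists_generators_of_isFT M h x
  haveI := (Scheme.Modules.restrictAdjunction U.ι).isLeftAdjoint
  haveI : Epi ((Scheme.Modules.restrictFunctor U.ι).map a) := inferInstance
  exact ⟨U, σ.ofEpi ((Scheme.Modules.restrictFunctor U.ι).map a), hxU, hσ⟩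

theorem exact_of_stalk {X : Scheme.{u}} (S : ShortComplex X.Modules)
    (h : ∀ x, LinearMap.range (stMapₗ S.f x) = LinearMap.ker (stMapₗ S.g x)) : S.Exact := by
  rw [ShortComplex.exact_iff_isZero_homology, Groth.L00.Stk.isZero_iff]
  intro x
  refine IsZero.of_iso ?_ (S.mapHomologyIso (Groth.L00.Stk.F X x)).symm
  rw [← ShortComplex.exact_iff_isZero_homology, ShortComplex.moduleCat_exact_iff_range_eq_ker]
  exact h x

variable {X S : Scheme.{u}} (f : X ⟶ S) (E : X.Modules)
  {B A C : CommRingCat.{u}} {p : B ⟶ A} {q : A ⟶ C} {t : B}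
  {sB : Spec B ⟶ S} {sA : Spec A ⟶ S} {sC : Spec C ⟶ S} (wA : Spec.map p ≫ sB = sA) (wC : Spec.map q ≫ sA = sC)
  (H : SExt p q t)
  (hE : FlatMod.IsFlatOver (PicF.XTproj f (Over.mk sB)) (FGA.ET f E (Over.mk sB)))
  (K : FGA.QuotSet f E (Over.mk sA))

include H in
theorem bet_mul_t_eq_zero (y : PicF.XT f (Over.mk sB)) {r : (PicF.XT f (Over.mk sB)).presheaf.stalk y}
    (hr : r ∈ mO f p q sB y) : r * bet f sB y t = 0 := by
  have h : mO f p q sB y ≤ Submodule.annihilator (Submodule.span ((PicF.XT f (Over.mk sB)).presheaf.stalk y)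
      {bet f sB y t}) := by
    rw [Ideal.map_le_iff_le_comap]
    intro b hb
    rw [Ideal.mem_comap, Submodule.mem_annihilator_span_singleton, smul_eq_mul, ← map_mul, (H.ann b).2 hb, map_zero]
  have h2 := h hr
  rw [Submodule.mem_annihilator_span_singleton, smul_eq_mul] at h2
  exact h2

include H in
theorem smul_smul_t_eq_zero (y : PicF.XT f (Over.mk sB)) {r : (PicF.XT f (Over.mk sB)).presheaf.stalk y}
    (hr : r ∈ mO f p q sB y) (x : PB f E sB y) : r • bet f sB y t • x = 0 := by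
  rw [smul_smul, bet_mul_t_eq_zero f H y hr, zero_smul]

include H in
theorem bet_t_mem (y : PicF.XT f (Over.mk sB)) : bet f sB y t ∈ mO f p q sB y := Ideal.mem_map_of_mem _ H.mem

/-- The preimage of the quotient's kernel on the thickening. -/
abbrev Kt : Subobject (FGA.ET f E (Over.mk sB)) := preSub f E (gA wA) K.1

/-- The restriction to the closed fibre. -/
abbrev Kc : Subobject (FGA.ET f E (Over.mk sC)) := FGA.quotPull f E (gC wA wC) (Kt f E wA K)

include H in
theorem Kc_eq : Kc f E wA wC K = FGA.quotPull f E (gAC wC) K.1 := by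
  haveI := closedImmersion_gA f H wA
  rw [Kc, quotPull_comp, quotPull_preSub]

include H hE in
theorem facts' (y : PicF.XT f (Over.mk sB)) : Facts f E p q t wA K.1 y := facts f E H wA hE K.2.2 y

/-- The parameter as a global function on the thickening. -/
def tg (t : B) (sB : Spec B ⟶ S) : Γ(PicF.XT f (Over.mk sB), ⊤) :=
  (PicF.XTproj f (Over.mk sB)).appTop ((Scheme.ΓSpecIso B).inv t)

theorem stMapₗ_smul_tg (y : PicF.XT f (Over.mk sB)) (x : PB f E sB y) :
    stMapₗ (smulMod (FGA.ET f E (Over.mk sB)) (tg f t sB)) y x = bet f sB y t • x := by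
  rw [stMapₗ_smulMod]
  exact congrArg (fun a : (PicF.XT f (Over.mk sB)).presheaf.stalk y => a • x) (β_eq_germ _ _ _).symm

/-- Multiplication by the parameter lands in the preimage. -/
def tau : FGA.ET f E (Over.mk sB) ⟶ (Kt f E wA K : (PicF.XT f (Over.mk sB)).Modules) :=
  factorThruKernelSubobject (piSub f E (gA wA) K.1) (smulMod (FGA.ET f E (Over.mk sB)) (tg f t sB))
    (eq_zero_of_stalk _ fun y x => by
      rw [stMapₗ_comp_apply, stMapₗ_smul_tg]
      exact (by
        have h := (facts' f E wA H hE K y).smulMem x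
        rwa [preSub, stR_kernel, LinearMap.mem_ker] at h))

theorem arrow_tau (y : PicF.XT f (Over.mk sB)) (x : PB f E sB y) :
    stMapₗ (Kt f E wA K).arrow y (stMapₗ (tau f E wA H hE K) y x) = bet f sB y t • x := by
  rw [← stMapₗ_comp_apply]
  refine Eq.trans ?_ (stMapₗ_smul_tg f E y x)
  exact congrArg (fun φ => stMapₗ φ y x) (factorThruKernelSubobject_comp_arrow _ _ _)

/-- The restriction of the preimage to the closed fibre. -/
abbrev jK : (PicF.XT f (Over.mk sC)).Modules :=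
  (Scheme.Modules.pullback (PicF.XTmap f (gC wA wC))).obj (Kt f E wA K : (PicF.XT f (Over.mk sB)).Modules)

/-- The pulled stalk map of the preimage. -/
abbrev pK (w : PicF.XT f (Over.mk sC)) :=
  pm (PicF.XTmap f (gC wA wC)) (Kt f E wA K : (PicF.XT f (Over.mk sB)).Modules) w

include H in
theorem pK_surjective (w : PicF.XT f (Over.mk sC)) : Function.Surjective (pK f E wA wC K w) :=
  haveI := closedImmersion_gC f H wA wC
  pm_surjective _ _ w

include H in
theorem pK_eq_zero_iff (w : PicF.XT f (Over.mk sC))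
    (v : (Groth.L00.Stk.F _ (PicF.XTmap f (gC wA wC) w)).obj (Kt f E wA K : (PicF.XT f (Over.mk sB)).Modules)) :
    pK f E wA wC K w v = 0 ↔ stMapₗ (Kt f E wA K).arrow _ v ∈
      mO f p q sB (PicF.XTmap f (gC wA wC) w) • stR (Kt f E wA K) (PicF.XTmap f (gC wA wC) w) := by
  haveI := closedImmersion_gC f H wA wC
  rw [pK, pm_eq_zero_iff, ker_stalkMap_bc (p ≫ q)
    (show Function.Surjective (q.hom ∘ p.hom) from H.surj'.comp H.surj) (isPullback_gC f wA wC) w,
    stR, ← Submodule.map_top, ← Submodule.map_smul'']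
  exact ⟨Submodule.mem_map_of_mem, fun ⟨v', hv', e⟩ => stMapₗ_injective _ _ e ▸ hv'⟩

/-- The map from the closed fibre of `E` induced by multiplication with the parameter. -/
def aMap : FGA.ET f E (Over.mk sC) ⟶ jK f E wA wC K :=
  (FGA.ETiso f E (gC wA wC)).inv ≫ (Scheme.Modules.pullback (PicF.XTmap f (gC wA wC))).map (tau f E wA H hE K)

theorem aMap_pmE (w : PicF.XT f (Over.mk sC)) (x : PB f E sB (PicF.XTmap f (gC wA wC) w)) :
    stMapₗ (aMap f E wA wC H hE K) w (pmE f E (gC wA wC) w x) =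
      pK f E wA wC K w (stMapₗ (tau f E wA H hE K) _ x) := by
  rw [aMap, stMapₗ_comp_apply]
  refine Eq.trans (congrArg _ ?_) (pm_natural _ (tau f E wA H hE K) w x)
  show stMapₗ _ w (stMapₗ _ w _) = _
  rw [← stMapₗ_comp_apply, Iso.hom_inv_id, stMapₗ_id]

/-- The inclusion of the restriction. -/
abbrev iota0 : jK f E wA wC K ⟶ FGA.ET f E (Over.mk sC) :=
  (Scheme.Modules.pullback (PicF.XTmap f (gC wA wC))).map (Kt f E wA K).arrow ≫ (FGA.ETiso f E (gC wA wC)).hom

theorem iota0_pK (w : PicF.XT f (Over.mk sC))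
    (v : (Groth.L00.Stk.F _ (PicF.XTmap f (gC wA wC) w)).obj (Kt f E wA K : (PicF.XT f (Over.mk sB)).Modules)) :
    stMapₗ (iota0 f E wA wC K) w (pK f E wA wC K w v) =
      pmE f E (gC wA wC) w (stMapₗ (Kt f E wA K).arrow _ v) := by
  rw [iota0, stMapₗ_comp_apply, pm_natural]
  rfl

/-- The surjection onto the restricted kernel. -/
def bMap : jK f E wA wC K ⟶ (Kc f E wA wC K : (PicF.XT f (Over.mk sC)).Modules) :=
  factorThruImageSubobject (iota0 f E wA wC K)

theorem bMap_arrow : bMap f E wA wC K ≫ (Kc f E wA wC K).arrow = iota0 f E wA wC K :=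
  imageSubobject_arrow_comp _

instance : Epi (bMap f E wA wC K) := by unfold bMap; infer_instance

theorem aMap_arrow : (Kc f E wA wC K).arrow ≫ aMap f E wA wC H hE K = 0 := by
  refine eq_zero_of_stalk _ fun w m => ?_
  haveI := closedImmersion_gC f H wA wC
  obtain ⟨x, hx, e⟩ := (mem_stR_quotPull_iff f E (gC wA wC) (Kt f E wA K) w _).1
    (show stMapₗ (Kc f E wA wC K).arrow w m ∈ stR (FGA.quotPull f E (gC wA wC) (Kt f E wA K)) w from ⟨m, rfl⟩)
  rw [stMapₗ_comp_apply, ← e, aMap_pmE, pK_eq_zero_iff f E wA wC H K, arrow_tau]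
  exact Submodule.smul_mem_smul (bet_t_mem f H _) hx

/-- The injection of the quotient on the closed fibre. -/
def alpha : cokernel (Kc f E wA wC K).arrow ⟶ jK f E wA wC K :=
  cokernel.desc _ (aMap f E wA wC H hE K) (aMap_arrow f E wA wC H hE K)

theorem alpha_mk (w : PicF.XT f (Over.mk sC)) (x : PB f E sB (PicF.XTmap f (gC wA wC) w)) :
    stMapₗ (alpha f E wA wC H hE K) w (stMapₗ (cokernel.π (Kc f E wA wC K).arrow) w (pmE f E (gC wA wC) w x)) =
      pK f E wA wC K w (stMapₗ (tau f E wA H hE K) _ x) := by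
  rw [← stMapₗ_comp_apply, alpha, cokernel.π_desc, aMap_pmE]

include H in
theorem cok_pmE_eq_zero_iff (w : PicF.XT f (Over.mk sC)) (x : PB f E sB (PicF.XTmap f (gC wA wC) w)) :
    stMapₗ (cokernel.π (Kc f E wA wC K).arrow) w (pmE f E (gC wA wC) w x) = 0 ↔
      x ∈ stR (Kt f E wA K) _ ⊔ mP f E p q sB _ := by
  haveI := closedImmersion_gC f H wA wC
  rw [← LinearMap.mem_ker, ← stR_eq_ker_cokernel, mem_stR_quotPull_iff, Submodule.mem_sup]
  constructor
  · rintro ⟨v, hv, e⟩
    exact ⟨v, hv, x - v, (pmE_gC_eq_zero_iff f E H wA wC w _).1 (by rw [map_sub, e, sub_self]), by abel⟩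
  · rintro ⟨v, hv, y, hy, rfl⟩
    exact ⟨v, hv, by rw [map_add, (pmE_gC_eq_zero_iff f E H wA wC w y).2 hy, add_zero]⟩

theorem exists_cok_pmE (w : PicF.XT f (Over.mk sC))
    (c : (Groth.L00.Stk.F _ w).obj (cokernel (Kc f E wA wC K).arrow)) (H' : SExt p q t) :
    ∃ x : PB f E sB (PicF.XTmap f (gC wA wC) w),
      stMapₗ (cokernel.π (Kc f E wA wC K).arrow) w (pmE f E (gC wA wC) w x) = c := by
  haveI := closedImmersion_gC f H' wA wC
  obtain ⟨e, rfl⟩ := stMapₗ_surjective (cokernel.π (Kc f E wA wC K).arrow) w c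
  obtain ⟨x, rfl⟩ := pmE_surjective f E (gC wA wC) w e
  exact ⟨x, rfl⟩

theorem alpha_bMap : alpha f E wA wC H hE K ≫ bMap f E wA wC K = 0 := by
  rw [← cancel_mono (Kc f E wA wC K).arrow, zero_comp, Category.assoc, bMap_arrow]
  refine eq_zero_of_stalk _ fun w c => ?_
  obtain ⟨x, rfl⟩ := exists_cok_pmE f E wA wC K w c H
  rw [stMapₗ_comp_apply, alpha_mk, iota0_pK, arrow_tau]
  exact (pmE_gC_eq_zero_iff f E H wA wC w _).2 (Submodule.smul_mem_smul (bet_t_mem f H _) trivial)

/-- The extension of the restricted kernel by the restricted quotient. -/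
abbrev liftSeq : ShortComplex (PicF.XT f (Over.mk sC)).Modules :=
  ShortComplex.mk (alpha f E wA wC H hE K) (bMap f E wA wC K) (alpha_bMap f E wA wC H hE K)

theorem shortExact_liftSeq : (liftSeq f E wA wC H hE K).ShortExact := by
  haveI : Mono (alpha f E wA wC H hE K) := mono_of_stalk _ fun w => by
    rw [← LinearMap.ker_eq_bot, LinearMap.ker_eq_bot']
    intro c hc
    obtain ⟨x, rfl⟩ := exists_cok_pmE f E wA wC K w c H
    rw [alpha_mk, pK_eq_zero_iff f E wA wC H K, arrow_tau] at hc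
    exact (cok_pmE_eq_zero_iff f E wA wC H K w x).2 ((facts' f E wA H hE K _).smulIff x |>.1 hc)
  refine { exact := exact_of_stalk _ fun w => le_antisymm ?_ fun u hu => ?_ }
  · rintro _ ⟨c, rfl⟩
    rw [LinearMap.mem_ker, ← stMapₗ_comp_apply, alpha_bMap]
    simp [stMapₗ]
  · obtain ⟨v, rfl⟩ := pK_surjective f E wA wC H K w u
    have h : stMapₗ (iota0 f E wA wC K) w (pK f E wA wC K w v) = 0 := by
      rw [← bMap_arrow, stMapₗ_comp_apply, LinearMap.mem_ker.1 hu, map_zero]
    rw [iota0_pK] at h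
    obtain ⟨x, hx⟩ := (facts' f E wA H hE K _).split _ ⟨v, rfl⟩ ((pmE_gC_eq_zero_iff f E H wA wC w _).1 h)
    refine ⟨stMapₗ (cokernel.π (Kc f E wA wC K).arrow) w (pmE f E (gC wA wC) w x), ?_⟩
    rw [alpha_mk, ← sub_eq_zero, ← map_sub, pK_eq_zero_iff f E wA wC H K, map_sub, arrow_tau]
    exact neg_mem_iff.1 (by rwa [neg_sub])

/-- The submodule cut out by a retraction. -/
def liftSub (r : jK f E wA wC K ⟶ cokernel (Kc f E wA wC K).arrow) : Subobject (FGA.ET f E (Over.mk sB)) :=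
  Subobject.mk (kernel.ι ((Scheme.Modules.pullbackPushforwardAdjunction (PicF.XTmap f (gC wA wC))).homEquiv _ _ r) ≫
    (Kt f E wA K).arrow)

include H in
theorem mem_liftSub_iff (r : jK f E wA wC K ⟶ cokernel (Kc f E wA wC K).arrow) (w : PicF.XT f (Over.mk sC))
    (x : PB f E sB (PicF.XTmap f (gC wA wC) w)) :
    x ∈ stR (liftSub f E wA wC K r) _ ↔
      ∃ v, stMapₗ (Kt f E wA K).arrow _ v = x ∧ stMapₗ r w (pK f E wA wC K w v) = 0 := by
  haveI := closedImmersion_gC f H wA wC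
  rw [liftSub, stR_mk, stMapₗ_comp, LinearMap.range_comp,
    range_eq_ker_of_exact _ _ (kernel.condition _) (ShortComplex.exact_of_f_is_kernel _ (kernelIsKernel _)),
    Submodule.mem_map]
  simp only [LinearMap.mem_ker]
  exact ⟨fun ⟨v, h1, h2⟩ => ⟨v, h2, (stMapₗ_transpose_eq_zero_iff _ r w v).1 h1⟩,
    fun ⟨v, h1, h2⟩ => ⟨v, (stMapₗ_transpose_eq_zero_iff _ r w v).2 h2, h1⟩⟩

theorem liftSub_le (r : jK f E wA wC K ⟶ cokernel (Kc f E wA wC K).arrow) :
    liftSub f E wA wC K r ≤ Kt f E wA K :=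
  Subobject.mk_le_of_comm (kernel.ι _) rfl

section Retraction

variable {r : jK f E wA wC K ⟶ cokernel (Kc f E wA wC K).arrow} (hr : alpha f E wA wC H hE K ≫ r = 𝟙 _)

include hr in
theorem retr_pK_tau (w : PicF.XT f (Over.mk sC)) (x : PB f E sB (PicF.XTmap f (gC wA wC) w)) :
    stMapₗ r w (pK f E wA wC K w (stMapₗ (tau f E wA H hE K) _ x)) =
      stMapₗ (cokernel.π (Kc f E wA wC K).arrow) w (pmE f E (gC wA wC) w x) := by
  rw [← alpha_mk, ← stMapₗ_comp_apply, hr, stMapₗ_id]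

include hr in
theorem liftSub_facts (y : PicF.XT f (Over.mk sB)) :
    (∀ x ∈ stR (Kt f E wA K) y, ∃ x' : PB f E sB y, x - bet f sB y t • x' ∈ stR (liftSub f E wA wC K r) y) ∧
    (∀ x : PB f E sB y, bet f sB y t • x ∈ stR (liftSub f E wA wC K r) y ↔
      x ∈ stR (Kt f E wA K) y ⊔ mP f E p q sB y) := by
  obtain ⟨w, rfl⟩ := surjective_gC f H wA wC y
  refine ⟨fun x hx => ?_, fun x => ?_⟩
  · obtain ⟨v, rfl⟩ := hx
    obtain ⟨x', hx'⟩ := exists_cok_pmE f E wA wC K w (stMapₗ r w (pK f E wA wC K w v)) H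
    refine ⟨x', (mem_liftSub_iff f E wA wC H K r w _).2
      ⟨v - stMapₗ (tau f E wA H hE K) _ x', by rw [map_sub, arrow_tau], ?_⟩⟩
    rw [map_sub, map_sub, retr_pK_tau f E wA wC H hE K hr, hx', sub_self]
  · rw [mem_liftSub_iff f E wA wC H K, ← cok_pmE_eq_zero_iff f E wA wC H K, ← retr_pK_tau f E wA wC H hE K hr]
    refine ⟨fun ⟨v, e, h⟩ => ?_, fun h => ⟨_, arrow_tau f E wA H hE K _ x, h⟩⟩
    rw [← arrow_tau f E wA H hE K] at e
    rwa [← stMapₗ_injective _ _ e]

include hr in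
theorem quotPull_liftSub : FGA.quotPull f E (gA wA) (liftSub f E wA wC K r) = K.1 := by
  haveI := closedImmersion_gA f H wA
  refine ext_stalk fun z => le_antisymm (fun e he => ?_) fun e he => ?_
  · obtain ⟨x, hx, rfl⟩ := (mem_stR_quotPull_iff f E _ _ z e).1 he
    exact (mem_preSub_iff f E _ K.1 z x).1 (stR_mono (liftSub_le f E wA wC K r) _ hx)
  · obtain ⟨x, rfl⟩ := pmE_surjective f E (gA wA) z e
    obtain ⟨x', hx'⟩ := (liftSub_facts f E wA wC H hE K hr _).1 x ((mem_preSub_iff f E _ K.1 z x).2 he)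
    refine (mem_stR_quotPull_iff f E _ _ z _).2 ⟨_, hx', ?_⟩
    rw [map_sub, (pmE_gA_eq_zero_iff f E H wA z _).2 ⟨x', rfl⟩, sub_zero]

include hr in
theorem isFlatOver_liftSub :
    FlatMod.IsFlatOver (PicF.XTproj f (Over.mk sB)) (cokernel (liftSub f E wA wC K r).arrow) := fun y =>
  (facts' f E wA H hE K y).flat _ (stR_mono (liftSub_le f E wA wC K r) y)
    (liftSub_facts f E wA wC H hE K hr y).1 (liftSub_facts f E wA wC H hE K hr y).2

include H in
theorem isCoh_liftSub (hcoh : Coh.IsCoh (FGA.ET f E (Over.mk sB)))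
    (r : jK f E wA wC K ⟶ cokernel (Kc f E wA wC K).arrow) :
    Coh.IsCoh (cokernel (liftSub f E wA wC K r).arrow) := by
  haveI := closedImmersion_gA f H wA
  haveI := closedImmersion_gC f H wA wC
  have hF : Coh.IsQCoh (FGA.ET f E (Over.mk sB)) := hcoh.1
  haveI : Coh.IsQCoh (cokernel K.1.arrow) := K.2.1.1
  have hQ : Coh.IsQCoh (cokernel (Kc f E wA wC K).arrow) := by
    rw [Kc_eq f E wA wC H K]
    exact (quotPull_mem f E (gAC wC) K).1.1
  haveI := hQ
  have hKt : Coh.IsQCoh (Kt f E wA K : (PicF.XT f (Over.mk sB)).Modules) :=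
    Groth.L29.DC.isQCoh_of_iso' (kernelSubobjectIso _).symm
      (Groth.L29.DC.isQCoh_kernel' _ hF (Groth.L16.QcqsPush.isQCoh_push _ _))
  have hL : Coh.IsQCoh ((liftSub f E wA wC K r : (PicF.XT f (Over.mk sB)).Modules)) :=
    Groth.L29.DC.isQCoh_of_iso' (Subobject.underlyingIso _).symm
      (Groth.L29.DC.isQCoh_kernel' _ hKt (Groth.L16.QcqsPush.isQCoh_push _ _))
  exact ⟨Groth.L29.DC.isQCoh_cokernel' _ hL hF, isFT_of_epi (cokernel.π _) hcoh.2⟩

end Retraction

include H hE in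
/-- Every lift is cut out by a retraction. -/
theorem exists_retraction (L : Subobject (FGA.ET f E (Over.mk sB)))
    (hflat : FlatMod.IsFlatOver (PicF.XTproj f (Over.mk sB)) (cokernel L.arrow))
    (hL : FGA.quotPull f E (gA wA) L = K.1) :
    ∃ r, alpha f E wA wC H hE K ≫ r = 𝟙 _ ∧ liftSub f E wA wC K r = L := by
  haveI := closedImmersion_gA f H wA
  haveI := closedImmersion_gC f H wA wC
  have hle : L ≤ Kt f E wA K := le_of_stalk fun y x hx => by
    obtain ⟨z, rfl⟩ := surjective_gA f H wA y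
    rw [mem_preSub_iff, ← hL]
    exact (mem_stR_quotPull_iff f E _ _ z _).2 ⟨x, hx, rfl⟩
  have hsum : ∀ y, ∀ x ∈ stR (Kt f E wA K) y, ∃ x' : PB f E sB y, x - bet f sB y t • x' ∈ stR L y := fun y x hx => by
    obtain ⟨z, rfl⟩ := surjective_gA f H wA y
    rw [mem_preSub_iff, ← hL, mem_stR_quotPull_iff] at hx
    obtain ⟨v, hv, e⟩ := hx
    obtain ⟨x', hx'⟩ := (pmE_gA_eq_zero_iff f E H wA z (x - v)).1 (by rw [map_sub, e, sub_self])
    exact ⟨x', by rw [hx']; simpa using hv⟩
  have hmK : ∀ y, mO f p q sB y • stR (Kt f E wA K) y ≤ stR L y := fun y => Submodule.smul_le.2 fun a ha x hx => by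
    obtain ⟨x', hx'⟩ := hsum y x hx
    have h := (stR L y).smul_mem a hx'
    rwa [smul_sub, smul_smul_t_eq_zero f E H y ha, sub_zero] at h
  let jm : (Scheme.Modules.pullback (PicF.XTmap f (gC wA wC))).obj (L : (PicF.XT f (Over.mk sB)).Modules) ⟶
      jK f E wA wC K :=
    (Scheme.Modules.pullback (PicF.XTmap f (gC wA wC))).map (Subobject.ofLE L _ hle)
  have hrange : ∀ w (v : (Groth.L00.Stk.F _ (PicF.XTmap f (gC wA wC) w)).obj
      (Kt f E wA K : (PicF.XT f (Over.mk sB)).Modules)),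
      stMapₗ (cokernel.π jm) w (pK f E wA wC K w v) = 0 ↔ stMapₗ (Kt f E wA K).arrow _ v ∈ stR L _ := by
    intro w v
    have hr := range_eq_ker_of_exact jm _ (cokernel.condition _)
      (ShortComplex.exact_of_g_is_cokernel _ (cokernelIsCokernel jm)) w
    rw [← LinearMap.mem_ker, ← hr, LinearMap.mem_range]
    constructor
    · rintro ⟨u, hu⟩
      obtain ⟨l, rfl⟩ := pm_surjective (PicF.XTmap f (gC wA wC)) _ w u
      rw [pm_natural, ← sub_eq_zero, ← map_sub, pK_eq_zero_iff f E wA wC H K, map_sub, ← stMapₗ_comp_apply,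
        Subobject.ofLE_arrow] at hu
      have h := sub_mem (show stMapₗ L.arrow _ l ∈ stR L _ from ⟨l, rfl⟩) (hmK _ hu)
      rwa [sub_sub_cancel] at h
    · rintro ⟨l, hl⟩
      refine ⟨pm _ _ w l, (pm_natural _ _ w l).trans (congrArg _ (stMapₗ_injective (Kt f E wA K).arrow _ ?_))⟩
      rw [← stMapₗ_comp_apply, Subobject.ofLE_arrow, hl]
  haveI : IsIso (alpha f E wA wC H hE K ≫ cokernel.π jm) := by
    haveI : Mono (alpha f E wA wC H hE K ≫ cokernel.π jm) := mono_of_stalk _ fun w => by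
      rw [← LinearMap.ker_eq_bot, LinearMap.ker_eq_bot']
      intro c hc
      obtain ⟨x, rfl⟩ := exists_cok_pmE f E wA wC K w c H
      rw [stMapₗ_comp_apply, alpha_mk, hrange, arrow_tau] at hc
      refine (cok_pmE_eq_zero_iff f E wA wC H K w x).2 ?_
      exact sup_le_sup_right (stR_mono hle _) _ ((facts' f E wA H hE K _).flatMem L (hflat _) x hc)
    haveI : Epi (alpha f E wA wC H hE K ≫ cokernel.π jm) := epi_of_stalk _ fun w c => by
      obtain ⟨u, rfl⟩ := stMapₗ_surjective (cokernel.π jm) w c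
      obtain ⟨v, rfl⟩ := pK_surjective f E wA wC H K w u
      obtain ⟨x, hx⟩ := hsum _ _ (⟨v, rfl⟩ : stMapₗ (Kt f E wA K).arrow _ v ∈ stR (Kt f E wA K) _)
      refine ⟨stMapₗ (cokernel.π (Kc f E wA wC K).arrow) w (pmE f E (gC wA wC) w x), ?_⟩
      rw [stMapₗ_comp_apply, alpha_mk, ← sub_eq_zero, ← map_sub, ← map_sub, hrange, map_sub, arrow_tau]
      exact neg_mem_iff.1 (by rwa [neg_sub])
    exact isIso_of_mono_of_epi _
  refine ⟨cokernel.π jm ≫ inv (alpha f E wA wC H hE K ≫ cokernel.π jm),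
    (Category.assoc _ _ _).symm.trans (IsIso.hom_inv_id _), ext_stalk fun y => ?_⟩
  obtain ⟨w, rfl⟩ := surjective_gC f H wA wC y
  ext x
  rw [mem_liftSub_iff f E wA wC H K]
  constructor
  · rintro ⟨v, rfl, hv⟩
    rw [stMapₗ_comp_apply] at hv
    refine (hrange w v).1 ((map_eq_zero_iff _ (stMapₗ_injective (inv (alpha f E wA wC H hE K ≫ cokernel.π jm)) w)).1 hv)
  · intro hx
    obtain ⟨v, rfl⟩ := stR_mono hle _ hx
    exact ⟨v, rfl, by rw [stMapₗ_comp_apply, (hrange w v).2 hx, map_zero]⟩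

include H hE in
/-- The retraction is determined by the submodule it cuts out. -/
theorem retraction_unique {r r' : jK f E wA wC K ⟶ cokernel (Kc f E wA wC K).arrow}
    (hr : alpha f E wA wC H hE K ≫ r = 𝟙 _) (hr' : alpha f E wA wC H hE K ≫ r' = 𝟙 _)
    (h : liftSub f E wA wC K r = liftSub f E wA wC K r') : r = r' := by
  refine hom_ext_stalk fun w u => ?_
  obtain ⟨v, rfl⟩ := pK_surjective f E wA wC H K w u
  obtain ⟨x, hx⟩ := (liftSub_facts f E wA wC H hE K hr _).1 _
    (⟨v, rfl⟩ : stMapₗ (Kt f E wA K).arrow _ v ∈ stR (Kt f E wA K) _)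
  have e : ∀ {s}, alpha f E wA wC H hE K ≫ s = 𝟙 _ →
      stMapₗ (Kt f E wA K).arrow _ v - bet f sB (PicF.XTmap f (gC wA wC) w) t • x ∈
        stR (liftSub f E wA wC K s) _ →
      stMapₗ s w (pK f E wA wC K w v) =
        stMapₗ (cokernel.π (Kc f E wA wC K).arrow) w (pmE f E (gC wA wC) w x) := fun {s} hs hm => by
    obtain ⟨v', hv', h0⟩ := (mem_liftSub_iff f E wA wC H K s w _).1 hm
    rw [← arrow_tau f E wA H hE K, ← map_sub] at hv'
    rw [stMapₗ_injective _ _ hv', map_sub, map_sub, sub_eq_zero, retr_pK_tau f E wA wC H hE K hs] at h0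
    exact h0
  rw [e hr hx, e hr' (h ▸ hx)]

end Groth.L14.Quot
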