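import Groth.Agent.L00.StalkFunctor
import Groth.Agent.L29.DCoh.RelBC
import Mathlib.CategoryTheory.Subobject.Limits
import Mathlib.CategoryTheory.Abelian.Exact

/-!
# Submodules of a sheaf of modules, stalk by stalk
-/

set_option autoImplicit false
set_option linter.style.haveILetI false
set_option backward.isDefEq.respectTransparency false
set_option backward.isDefEq.respectTransparency.types false

universe u

open CategoryTheory CategoryTheory.Limits AlgebraicGeometry

noncomputable section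

namespace Groth.L14.Quot

variable {X : Scheme.{u}}

/-- The map on stalks. -/
abbrev stMapₗ {M N : X.Modules} (f : M ⟶ N) (x : X) :
    (Groth.L00.Stk.F X x).obj M →ₗ[X.presheaf.stalk x] (Groth.L00.Stk.F X x).obj N :=
  ((Groth.L00.Stk.F X x).map f).hom

theorem stMapₗ_comp {M N P : X.Modules} (f : M ⟶ N) (g : N ⟶ P) (x : X) :
    stMapₗ (f ≫ g) x = stMapₗ g x ∘ₗ stMapₗ f x := by
  rw [stMapₗ, Functor.map_comp]; rfl

theorem stMapₗ_comp_apply {M N P : X.Modules} (f : M ⟶ N) (g : N ⟶ P) (x : X)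
    (m : (Groth.L00.Stk.F X x).obj M) : stMapₗ (f ≫ g) x m = stMapₗ g x (stMapₗ f x m) :=
  LinearMap.congr_fun (stMapₗ_comp f g x) m

theorem stMapₗ_id (M : X.Modules) (x : X) (m : (Groth.L00.Stk.F X x).obj M) : stMapₗ (𝟙 M) x m = m := by
  rw [stMapₗ, CategoryTheory.Functor.map_id]; rfl

instance (x : X) : (Groth.L00.Stk.F X x).Additive :=
  haveI := preservesBinaryBiproducts_of_preservesBinaryProducts (Groth.L00.Stk.F X x)
  Functor.additive_of_preservesBinaryBiproducts _

theorem stMapₗ_sub {M N : X.Modules} (f g : M ⟶ N) (x : X) : stMapₗ (f - g) x = stMapₗ f x - stMapₗ g x := by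
  rw [stMapₗ, Functor.map_sub]; rfl

theorem stMapₗ_injective {M N : X.Modules} (f : M ⟶ N) [Mono f] (x : X) : Function.Injective (stMapₗ f x) :=
  (ModuleCat.mono_iff_injective _).1 inferInstance

theorem stMapₗ_surjective {M N : X.Modules} (f : M ⟶ N) [Epi f] (x : X) : Function.Surjective (stMapₗ f x) :=
  (ModuleCat.epi_iff_surjective _).1 inferInstance

theorem mono_of_stalk {M N : X.Modules} (f : M ⟶ N) (h : ∀ x, Function.Injective (stMapₗ f x)) : Mono f := by
  refine Preadditive.mono_of_isZero_kernel f ((Groth.L00.Stk.isZero_iff _).2 fun x => ?_)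
  haveI : Mono ((Groth.L00.Stk.F X x).map f) := (ModuleCat.mono_iff_injective _).2 (h x)
  exact (isZero_kernel_of_mono _).of_iso (PreservesKernel.iso _ f)

theorem epi_of_stalk {M N : X.Modules} (f : M ⟶ N) (h : ∀ x, Function.Surjective (stMapₗ f x)) : Epi f := by
  refine Preadditive.epi_of_isZero_cokernel f ((Groth.L00.Stk.isZero_iff _).2 fun x => ?_)
  haveI : Epi ((Groth.L00.Stk.F X x).map f) := (ModuleCat.epi_iff_surjective _).2 (h x)
  exact (isZero_cokernel_of_epi _).of_iso (PreservesCokernel.iso _ f)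

theorem eq_zero_of_stalk {M N : X.Modules} (f : M ⟶ N) (h : ∀ x m, stMapₗ f x m = 0) : f = 0 := by
  have : IsZero (image f) := by
    refine (Groth.L00.Stk.isZero_iff _).2 fun x => ?_
    haveI : Subsingleton ((Groth.L00.Stk.F X x).obj (image f)) := subsingleton_of_forall_eq 0 fun y => by
      obtain ⟨m, rfl⟩ := stMapₗ_surjective (factorThruImage f) x y
      refine stMapₗ_injective (image.ι f) x ?_
      rw [← stMapₗ_comp_apply, image.fac, h, map_zero]
    exact ModuleCat.isZero_of_subsingleton _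
  rw [← image.fac f, this.eq_of_tgt (factorThruImage f) 0, zero_comp]

theorem hom_ext_stalk {M N : X.Modules} {f g : M ⟶ N} (h : ∀ x m, stMapₗ f x m = stMapₗ g x m) : f = g :=
  sub_eq_zero.1 <| eq_zero_of_stalk _ fun x m => by rw [stMapₗ_sub, LinearMap.sub_apply, h, sub_self]

variable {E : X.Modules}

/-- The stalk of a submodule, inside the stalk. -/
def stR (K : Subobject E) (x : X) : Submodule (X.presheaf.stalk x) ((Groth.L00.Stk.F X x).obj E) :=
  LinearMap.range (stMapₗ K.arrow x)

theorem le_of_stalk {K K' : Subobject E} (h : ∀ x, stR K x ≤ stR K' x) : K ≤ K' := by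
  have h0 : K.arrow ≫ cokernel.π K'.arrow = 0 := eq_zero_of_stalk _ fun x m => by
    obtain ⟨m', hm'⟩ := h x ⟨m, rfl⟩
    rw [stMapₗ_comp_apply, ← hm', ← stMapₗ_comp_apply, cokernel.condition]
    simp [stMapₗ]
  exact Subobject.le_of_comm (Abelian.monoLift K'.arrow K.arrow h0) (Abelian.monoLift_comp _ _ _)

theorem stR_mono {K K' : Subobject E} (h : K ≤ K') (x : X) : stR K x ≤ stR K' x := by
  rintro _ ⟨m, rfl⟩
  exact ⟨stMapₗ (Subobject.ofLE K K' h) x m, by rw [← stMapₗ_comp_apply, Subobject.ofLE_arrow]⟩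

theorem ext_stalk {K K' : Subobject E} (h : ∀ x, stR K x = stR K' x) : K = K' :=
  le_antisymm (le_of_stalk fun x => (h x).le) (le_of_stalk fun x => (h x).ge)

theorem range_stMapₗ_comp_epi {M N P : X.Modules} (e : M ⟶ N) [Epi e] (g : N ⟶ P) (x : X) :
    LinearMap.range (stMapₗ (e ≫ g) x) = LinearMap.range (stMapₗ g x) := by
  rw [stMapₗ_comp, LinearMap.range_comp_of_range_eq_top _ (LinearMap.range_eq_top.2 (stMapₗ_surjective e x))]

theorem stR_image {M : X.Modules} (f : M ⟶ E) (x : X) :
    stR (imageSubobject f) x = LinearMap.range (stMapₗ f x) := by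
  conv_rhs => rw [← imageSubobject_arrow_comp f]
  exact (range_stMapₗ_comp_epi _ _ x).symm

theorem stR_mk {M : X.Modules} (f : M ⟶ E) [Mono f] (x : X) :
    stR (Subobject.mk f) x = LinearMap.range (stMapₗ f x) := by
  conv_rhs => rw [← Subobject.underlyingIso_arrow f]
  exact (range_stMapₗ_comp_epi _ _ x).symm

theorem range_eq_ker_of_exact {M N P : X.Modules} (f : M ⟶ N) (g : N ⟶ P) (w : f ≫ g = 0)
    (h : (ShortComplex.mk f g w).Exact) (x : X) :
    LinearMap.range (stMapₗ f x) = LinearMap.ker (stMapₗ g x) :=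
  (h.map (Groth.L00.Stk.F X x)).moduleCat_range_eq_ker

theorem stR_kernel {N : X.Modules} (g : E ⟶ N) (x : X) :
    stR (kernelSubobject g) x = LinearMap.ker (stMapₗ g x) := by
  rw [← range_eq_ker_of_exact (kernel.ι g) g (kernel.condition g) (ShortComplex.exact_of_f_is_kernel _ (kernelIsKernel g)) x,
    ← kernelSubobject_arrow', range_stMapₗ_comp_epi]
  rfl

theorem stR_eq_ker_cokernel (K : Subobject E) (x : X) :
    stR K x = LinearMap.ker (stMapₗ (cokernel.π K.arrow) x) :=
  range_eq_ker_of_exact K.arrow _ (cokernel.condition _) (ShortComplex.exact_of_g_is_cokernel _ (cokernelIsCokernel _)) x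

/-- The stalk of the quotient. -/
def quotEquiv (K : Subobject E) (x : X) :
    ((Groth.L00.Stk.F X x).obj E ⧸ stR K x) ≃ₗ[X.presheaf.stalk x] (Groth.L00.Stk.F X x).obj (cokernel K.arrow) :=
  (Submodule.quotEquivOfEq _ _ (stR_eq_ker_cokernel K x)).trans
    ((stMapₗ (cokernel.π K.arrow) x).quotKerEquivOfSurjective (stMapₗ_surjective _ x))

variable {S : Scheme.{u}} (f : X ⟶ S)

theorem isFlatOverAt_iff_quot (K : Subobject E) (x : X) :
    FlatMod.IsFlatOverAt f (cokernel K.arrow) x ↔
      letI : Module (S.presheaf.stalk (f x)) ((Groth.L00.Stk.F X x).obj E ⧸ stR K x) :=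
        Module.compHom _ (f.stalkMap x).hom
      Module.Flat (S.presheaf.stalk (f x)) ((Groth.L00.Stk.F X x).obj E ⧸ stR K x) := by
  letI : Module (S.presheaf.stalk (f x)) ((Groth.L00.Stk.F X x).obj E ⧸ stR K x) :=
    Module.compHom _ (f.stalkMap x).hom
  letI : Module (S.presheaf.stalk (f x)) ((Groth.L00.Stk.F X x).obj (cokernel K.arrow)) :=
    FlatMod.moduleStalkOver f (cokernel K.arrow) x
  let e : ((Groth.L00.Stk.F X x).obj E ⧸ stR K x) ≃ₗ[S.presheaf.stalk (f x)]
      (Groth.L00.Stk.F X x).obj (cokernel K.arrow) :=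
    { (quotEquiv K x).toAddEquiv with map_smul' := fun r m => (quotEquiv K x).map_smul ((f.stalkMap x).hom r) m }
  constructor
  · intro h
    haveI : Module.Flat (S.presheaf.stalk (f x)) ((Groth.L00.Stk.F X x).obj (cokernel K.arrow)) := h
    exact Module.Flat.of_linearEquiv e
  · intro h
    haveI := h
    exact (Module.Flat.of_linearEquiv e.symm :
      Module.Flat (S.presheaf.stalk (f x)) ((Groth.L00.Stk.F X x).obj (cokernel K.arrow)))

end Groth.L14.Quot
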