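import Groth.Agent.L14.Quot.Sub
import Groth.Agent.L17.ClosedPush

/-!
# Multiplication by a global function
-/

set_option autoImplicit false
set_option backward.isDefEq.respectTransparency false
set_option backward.isDefEq.respectTransparency.types false

universe u

open CategoryTheory CategoryTheory.Limits AlgebraicGeometry TopologicalSpace Opposite

noncomputable section

namespace Groth.L14.Quot

variable {X : Scheme.{u}}

/-- Multiplication by a global function, as a map of modules. -/
def smulMod (M : X.Modules) (r : Γ(X, ⊤)) : M ⟶ M :=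
  ⟨PresheafOfModules.homMk (Coh.smulAb M r).hom
    (fun U a m => by
      change Coh.resTop X U r • (a • m) = a • (Coh.resTop X U r • m)
      exact smul_comm (show Γ(X, U.unop) from Coh.resTop X U r) (show Γ(X, U.unop) from a) (show Γ(M, U.unop) from m))⟩

theorem smulMod_app (M : X.Modules) (r : Γ(X, ⊤)) (U : X.Opens) (m : Γ(M, U)) :
    (smulMod M r).app U m = (X.presheaf.map (homOfLE le_top : U ⟶ ⊤).op r) • m := rfl

theorem stMapₗ_smulMod (M : X.Modules) (r : Γ(X, ⊤)) (x : X) (q : (Groth.L00.Stk.F X x).obj M) :
    stMapₗ (smulMod M r) x q = (X.presheaf.germ ⊤ x trivial r : X.presheaf.stalk x) • q := by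
  obtain ⟨V, hV, m, rfl⟩ := Groth.L00.StalkTensor.exists_germ (Groth.L00.Tensor.pre M) x q
  refine (Groth.L17.ClosedPush.stk_map_germ (smulMod M r) x hV m).trans ?_
  rw [smulMod_app]
  refine (Groth.L00.StalkTensor.germ_smul' (Groth.L00.Tensor.pre M) x hV _ m).trans ?_
  exact congrArg (fun a : X.presheaf.stalk x => a • Groth.L00.StalkTensor.germ (Groth.L00.Tensor.pre M) x hV m)
    (TopCat.Presheaf.germ_res_apply X.presheaf _ x hV r)

end Groth.L14.Quot
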