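import Groth.Agent.L14.Quot.Lift
import Groth.Prelude.Def_KLin

/-!
# Functoriality of the extension attached to a small extension
-/

set_option autoImplicit false
set_option linter.style.haveILetI false
set_option linter.unusedSectionVars false
set_option backward.isDefEq.respectTransparency false
set_option backward.isDefEq.respectTransparency.types false

universe u

open CategoryTheory CategoryTheory.Limits AlgebraicGeometry TopologicalSpace Opposite

noncomputable section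

namespace Groth.L14.Quot

open Groth.L18.Frame (rs ro pull pull_smul)

theorem smulMod_eq {X : Scheme.{u}} (M : X.Modules) (r : Γ(X, ⊤)) : smulMod M r = Formal.smulModΓ M r :=
  Scheme.Modules.hom_ext _ _ fun _ => rfl

theorem comp_smulMod {X : Scheme.{u}} {M N : X.Modules} (a : M ⟶ N) (r : Γ(X, ⊤)) :
    a ≫ smulMod N r = smulMod M r ≫ a := by
  rw [smulMod_eq, smulMod_eq]
  exact KLin.comp_smulModΓ a r

theorem pullback_smulMod {X Y : Scheme.{u}} (h : X ⟶ Y) (N : Y.Modules) (r : Γ(Y, ⊤)) :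
    (Scheme.Modules.pullback h).map (smulMod N r) = smulMod _ (h.appTop r) := by
  refine hom_ext_pull h fun V m => ?_
  rw [Groth.L17.BC.PullSec.map_pull, smulMod_app, smulMod_app, pull_smul]
  exact congrArg (fun a : Γ(X, h ⁻¹ᵁ V) => a • pull h N V m)
    (congr($(h.naturality (homOfLE (le_top : V ≤ ⊤)).op) r))

section Transit

variable {X S : Scheme.{u}} (f : X ⟶ S) (E : X.Modules) {T T' T'' : Over S}
  (g : T'' ⟶ T') (g' : T' ⟶ T) (h : T'' ⟶ T) (hh : g ≫ g' = h)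

/-- Pulling back in two steps. -/
def transit : Scheme.Modules.pullback (PicF.XTmap f g') ⋙ Scheme.Modules.pullback (PicF.XTmap f g) ≅
    Scheme.Modules.pullback (PicF.XTmap f h) :=
  Scheme.Modules.pullbackComp _ _ ≪≫ Scheme.Modules.pullbackCongr (by rw [← hh, XTmap_comp'])

theorem transit_ET :
    (Scheme.Modules.pullback (PicF.XTmap f g)).map (FGA.ETiso f E g').hom ≫ (FGA.ETiso f E g).hom =
      (transit f g g' h hh).hom.app (FGA.ET f E T) ≫ (FGA.ETiso f E h).hom := by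
  subst hh
  rw [ETiso_comp, transit, Iso.trans_hom, NatTrans.comp_app, Category.assoc]

theorem le_preSub [IsClosedImmersion (PicF.XTmap f g')] (L : Subobject (FGA.ET f E T))
    (K : Subobject (FGA.ET f E T')) (hs : Function.Surjective (PicF.XTmap f g'))
    (hL : FGA.quotPull f E g' L ≤ K) : L ≤ preSub f E g' K := by
  refine le_of_stalk fun y x hx => ?_
  obtain ⟨z, rfl⟩ := hs y
  exact (mem_preSub_iff f E g' K z x).2
    (stR_mono hL z ((mem_stR_quotPull_iff f E g' L z _).2 ⟨x, hx, rfl⟩))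

end Transit

variable {X S : Scheme.{u}} (f : X ⟶ S) (E : X.Modules)
  {B A C B' A' : CommRingCat.{u}} {p : B ⟶ A} {q : A ⟶ C} {t : B} {p' : B' ⟶ A'} {q' : A' ⟶ C} {t' : B'}
  {sB : Spec B ⟶ S} {sA : Spec A ⟶ S} {sC : Spec C ⟶ S} {sB' : Spec B' ⟶ S} {sA' : Spec A' ⟶ S}

/-- A morphism of extensions with the same residue ring. -/
structure Mor (p : B ⟶ A) (q : A ⟶ C) (p' : B' ⟶ A') (q' : A' ⟶ C) (sB : Spec B ⟶ S) (sA : Spec A ⟶ S)
    (sB' : Spec B' ⟶ S) (sA' : Spec A' ⟶ S) where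
  /-- on the bigger rings -/
  θ : B ⟶ B'
  /-- on the smaller rings -/
  η : A ⟶ A'
  sq : p ≫ η = θ ≫ p'
  res : η ≫ q' = q
  hθ : Spec.map θ ≫ sB = sB'
  hη : Spec.map η ≫ sA = sA'

variable (wA : Spec.map p ≫ sB = sA) (wC : Spec.map q ≫ sA = sC)
  (wA' : Spec.map p' ≫ sB' = sA') (wC' : Spec.map q' ≫ sA' = sC)
  (M : Mor p q p' q' sB sA sB' sA')

/-- The map on bigger test schemes. -/
abbrev Mor.gθ : Over.mk sB' ⟶ Over.mk sB := Over.homMk (Spec.map M.θ) M.hθ

/-- The map on smaller test schemes. -/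
abbrev Mor.gη : Over.mk sA' ⟶ Over.mk sA := Over.homMk (Spec.map M.η) M.hη

theorem Mor.gA_comm : gA wA' ≫ M.gθ = M.gη ≫ gA wA := Over.OverMorphism.ext (by
  show Spec.map p' ≫ Spec.map M.θ = Spec.map M.η ≫ Spec.map p
  rw [← Spec.map_comp, ← Spec.map_comp, M.sq])

theorem Mor.gC_comm : gC wA' wC' ≫ M.gθ = gC wA wC := Over.OverMorphism.ext (by
  show (Spec.map q' ≫ Spec.map p') ≫ Spec.map M.θ = Spec.map q ≫ Spec.map p
  rw [← Spec.map_comp, ← Spec.map_comp, ← Spec.map_comp, ← Category.assoc, ← M.sq, Category.assoc, M.res])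

variable (H : SExt p q t) (H' : SExt p' q' t') (K : FGA.QuotSet f E (Over.mk sA))
  (K' : FGA.QuotSet f E (Over.mk sA')) (hK' : FGA.quotPull f E M.gη K.1 = K'.1)

include H H' hK' in
theorem Mor.quotPull_Kt_le : FGA.quotPull f E M.gθ (Kt f E wA K) ≤ Kt f E wA' K' := by
  haveI := closedImmersion_gA f H wA
  haveI := closedImmersion_gA f H' wA'
  refine le_preSub f E _ _ _ (surjective_gA f H' wA') (le_of_eq ?_)
  rw [← quotPull_comp, Mor.gA_comm wA wA' M, quotPull_comp, quotPull_preSub, hK']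

/-- The map on preimages. -/
def Mor.phi : (Scheme.Modules.pullback (PicF.XTmap f M.gθ)).obj (Kt f E wA K : (PicF.XT f (Over.mk sB)).Modules) ⟶
    (Kt f E wA' K' : (PicF.XT f (Over.mk sB')).Modules) :=
  factorThruImageSubobject ((Scheme.Modules.pullback (PicF.XTmap f M.gθ)).map (Kt f E wA K).arrow ≫
      (FGA.ETiso f E M.gθ).hom) ≫
    Subobject.ofLE _ _ (Mor.quotPull_Kt_le f E wA wA' M H H' K K' hK')

theorem Mor.phi_arrow : M.phi f E wA wA' H H' K K' hK' ≫ (Kt f E wA' K').arrow =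
    (Scheme.Modules.pullback (PicF.XTmap f M.gθ)).map (Kt f E wA K).arrow ≫ (FGA.ETiso f E M.gθ).hom := by
  rw [Mor.phi, Category.assoc, Subobject.ofLE_arrow]
  exact imageSubobject_arrow_comp _

/-- The map on restricted preimages. -/
def Mor.mu : jK f E wA wC K ⟶ jK f E wA' wC' K' :=
  (transit f (gC wA' wC') M.gθ (gC wA wC) (Mor.gC_comm wA wC wA' wC' M)).inv.app _ ≫
    (Scheme.Modules.pullback (PicF.XTmap f (gC wA' wC'))).map (M.phi f E wA wA' H H' K K' hK')

theorem Mor.transit_inv_ET :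
    (transit f (gC wA' wC') M.gθ (gC wA wC) (Mor.gC_comm wA wC wA' wC' M)).inv.app (FGA.ET f E (Over.mk sB)) ≫
      (Scheme.Modules.pullback (PicF.XTmap f (gC wA' wC'))).map (FGA.ETiso f E M.gθ).hom ≫
        (FGA.ETiso f E (gC wA' wC')).hom = (FGA.ETiso f E (gC wA wC)).hom := by
  rw [transit_ET f E (gC wA' wC') M.gθ (gC wA wC) (Mor.gC_comm wA wC wA' wC' M), Iso.inv_hom_id_app_assoc]

theorem Mor.mu_iota : M.mu f E wA wC wA' wC' H H' K K' hK' ≫ iota0 f E wA' wC' K' = iota0 f E wA wC K := by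
  rw [Mor.mu, iota0, Category.assoc, ← Functor.map_comp_assoc, Mor.phi_arrow, Functor.map_comp, Category.assoc]
  refine ((transit f (gC wA' wC') M.gθ (gC wA wC) (Mor.gC_comm wA wC wA' wC' M)).inv.naturality_assoc
    (Kt f E wA K).arrow _).symm.trans ?_
  rw [Mor.transit_inv_ET]

variable (hE : FlatMod.IsFlatOver (PicF.XTproj f (Over.mk sB)) (FGA.ET f E (Over.mk sB)))
  (hE' : FlatMod.IsFlatOver (PicF.XTproj f (Over.mk sB')) (FGA.ET f E (Over.mk sB')))
  (c : B') (hc : M.θ t = c * t')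

theorem XTmap_appTop_tg {B₁ B₂ : CommRingCat.{u}} (θ : B₁ ⟶ B₂) {s₁ : Spec B₁ ⟶ S} {s₂ : Spec B₂ ⟶ S}
    (g : Over.mk s₂ ⟶ Over.mk s₁) (hg : g.left = Spec.map θ) (b : B₁) :
    (PicF.XTmap f g).appTop (tg f b s₁) = tg f (θ b) s₂ := by
  have h1 : (Scheme.ΓSpecIso B₂).inv (θ b) = (Spec.map θ).appTop ((Scheme.ΓSpecIso B₁).inv b) :=
    ConcreteCategory.congr_hom (Scheme.ΓSpecIso_inv_naturality θ) b
  have h2 := congrArg (fun k : PicF.XT f (Over.mk s₂) ⟶ Spec B₁ => k.appTop ((Scheme.ΓSpecIso B₁).inv b))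
    ((isPullback_XTmap f g).w.trans (congrArg (PicF.XTproj f (Over.mk s₂) ≫ ·) hg))
  simp only [Scheme.Hom.comp_appTop] at h2
  rw [tg, tg, h1]
  exact h2

theorem tg_mul {B₁ : CommRingCat.{u}} (s₁ : Spec B₁ ⟶ S) (a b : B₁) :
    tg f (a * b) s₁ = tg f a s₁ * tg f b s₁ := by
  simp only [tg, map_mul]

include hc in
theorem Mor.tau_phi :
    (Scheme.Modules.pullback (PicF.XTmap f M.gθ)).map (tau f E wA H hE K) ≫ M.phi f E wA wA' H H' K K' hK' =
      (FGA.ETiso f E M.gθ).hom ≫ smulMod _ (tg f c sB') ≫ tau f E wA' H' hE' K' := by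
  refine (cancel_mono (Kt f E wA' K').arrow).1 ?_
  have e : ∀ {B₁ A₁ : CommRingCat.{u}} {p₁ : B₁ ⟶ A₁} {q₁ : A₁ ⟶ C} {t₁ : B₁} {s₁ : Spec B₁ ⟶ S}
      {s₁' : Spec A₁ ⟶ S} (w₁ : Spec.map p₁ ≫ s₁ = s₁') (H₁ : SExt p₁ q₁ t₁)
      (h₁ : FlatMod.IsFlatOver (PicF.XTproj f (Over.mk s₁)) (FGA.ET f E (Over.mk s₁)))
      (K₁ : FGA.QuotSet f E (Over.mk s₁')),
      tau f E w₁ H₁ h₁ K₁ ≫ (Kt f E w₁ K₁).arrow = smulMod _ (tg f t₁ s₁) := fun w₁ H₁ h₁ K₁ =>
    factorThruKernelSubobject_comp_arrow _ _ _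
  rw [Category.assoc, Category.assoc, Category.assoc, Mor.phi_arrow, ← Functor.map_comp_assoc, e, e,
    pullback_smulMod, ← comp_smulMod, XTmap_appTop_tg f M.θ M.gθ rfl, hc, tg_mul, smulMod_eq,
    smulMod_eq, smulMod_eq, KLin.smulModΓ_mul]

theorem Mor.cbar_eq : (PicF.XTmap f (gC wA' wC')).appTop (tg f c sB') = tg f ((p' ≫ q') c) sC :=
  XTmap_appTop_tg f (p' ≫ q') (gC wA' wC') (Spec.map_comp p' q').symm c

include hc in
theorem Mor.aMap_mu : aMap f E wA wC H hE K ≫ M.mu f E wA wC wA' wC' H H' K K' hK' =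
    smulMod _ (tg f ((p' ≫ q') c) sC) ≫ aMap f E wA' wC' H' hE' K' := by
  rw [aMap, aMap, Category.assoc, Mor.mu, ← Category.assoc (smulMod _ _), ← comp_smulMod, Category.assoc,
    ← Mor.cbar_eq f wA' wC' c, ← pullback_smulMod, ← Functor.map_comp]
  have h1 : (Scheme.Modules.pullback (PicF.XTmap f (gC wA wC))).map (tau f E wA H hE K) ≫
      (transit f (gC wA' wC') M.gθ (gC wA wC) (Mor.gC_comm wA wC wA' wC' M)).inv.app _ =
      (transit f (gC wA' wC') M.gθ (gC wA wC) (Mor.gC_comm wA wC wA' wC' M)).inv.app _ ≫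
        (Scheme.Modules.pullback (PicF.XTmap f (gC wA' wC'))).map
          ((Scheme.Modules.pullback (PicF.XTmap f M.gθ)).map (tau f E wA H hE K)) :=
    (transit f (gC wA' wC') M.gθ (gC wA wC) (Mor.gC_comm wA wC wA' wC' M)).inv.naturality (tau f E wA H hE K)
  rw [reassoc_of% h1, ← Functor.map_comp, Mor.tau_phi f E wA wA' M H H' K K' hK' hE hE' c hc, Functor.map_comp,
    Iso.inv_comp_eq, ← Mor.transit_inv_ET f E wA wC wA' wC' M]
  simp only [Category.assoc, Iso.hom_inv_id_assoc]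

include hc in
theorem Mor.alpha_mu :
    alpha f E wA wC H hE K ≫ M.mu f E wA wC wA' wC' H H' K K' hK' =
      cokernel.desc _ (smulMod _ (tg f ((p' ≫ q') c) sC) ≫ aMap f E wA' wC' H' hE' K')
          (by rw [← Mor.aMap_mu f E wA wC wA' wC' M H H' K K' hK' hE hE' c hc, ← Category.assoc,
            aMap_arrow, zero_comp]) := by
  refine coequalizer.hom_ext ?_
  rw [alpha, cokernel.π_desc_assoc]
  exact (Mor.aMap_mu f E wA wC wA' wC' M H H' K K' hK' hE hE' c hc).trans (cokernel.π_desc _ _ _).symm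

include H H' hK' in
theorem Mor.Kc_eq_Kc : Kc f E wA' wC' K' = Kc f E wA wC K := by
  rw [Kc_eq f E wA' wC' H' K', Kc_eq f E wA wC H K, ← hK', ← quotPull_comp]
  exact congrArg (fun g => FGA.quotPull f E g K.1) (Over.OverMorphism.ext (by
    show Spec.map q' ≫ Spec.map M.η = Spec.map q
    rw [← Spec.map_comp, M.res]))

end Groth.L14.Quot
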