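import Groth.Agent.L14.Quot.RelSmooth
import Groth.Agent.L14.SmVar.Regular
import Groth.Agent.S2793
import Groth.Prelude.Def_KLin
import Mathlib.RingTheory.Smooth.StandardSmoothCotangent
import Mathlib.AlgebraicGeometry.Morphisms.Finite

/-!
# Smoothness and relative dimension of a relative Quot scheme at a rational point
-/

set_option autoImplicit false
set_option linter.style.haveILetI false
set_option linter.unusedSectionVars false
set_option backward.isDefEq.respectTransparency false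
set_option backward.isDefEq.respectTransparency.types false

universe u

open CategoryTheory CategoryTheory.Limits AlgebraicGeometry TopologicalSpace Opposite ArtFun ArtFun.Art IsLocalRing

noncomputable section

namespace Groth.L14.Quot

open Groth.L14.LocHilb (St stRes stMap StHom stAlg ptOfDual ptOfDual_bijective ptOfPair ptOfPair_pr₁ ptOfPair_pr₂
  ptOfPair_plus ptOfDual_scale finrank_cotangent_eq)

variable {k : Type u} [Field k] {X S : Scheme.{u}} (f : X ⟶ S) (E : X.Modules) (hEf : FlatMod.IsFlatOver f E)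
  (hE : Coh.IsCoh E) (σ : S ⟶ Spec (CommRingCat.of k)) {Q : Over S} (Ku : FGA.QuotSet f E Q)
  (hQ : FGA.QuotRepresentedBy f E Q Ku) (sb : spec (base k k) ⟶ S) (hsb : sb ≫ σ = 𝟙 _)
  (K₀ : FGA.QuotSet f E (Over.mk sb)) (g : Over.mk sb ⟶ Q) (hg : FGA.quotPull f E g Ku.1 = K₀.1)

include hEf hE hQ hsb hg in
theorem smooth_at [IsLocallyNoetherian S] [LocallyOfFiniteType Q.hom] [HasExt.{u} (PicF.XT f (Over.mk sb)).Modules]
    (hExt : Subsingleton (Abelian.Ext.{u} (Subobject.underlying.obj K₀.1) (cokernel K₀.1.arrow) 1)) :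
    ∃ U : Q.left.Opens, g.left (closedPoint k) ∈ U ∧ Smooth (U.ι ≫ Q.hom) := by
  refine (Groth.Agent.S2793.result Q.hom (g.left (closedPoint k))).2 ?_
  intro A' _ _ _ h _ I hI _ g₀ hc hm hr
  exact exists_artinian_lift f E hEf hE σ Ku hQ sb hsb K₀ g hg hExt A' h I hI g₀ hc hm hr

theorem exists_relativeDimension {P Y : Scheme.{u}} (π : P ⟶ Y) [Smooth π] (x : P) :
    ∃ (W : P.Opens) (n : ℕ), x ∈ W ∧ SmoothOfRelativeDimension n (W.ι ≫ π) := by
  obtain ⟨U, hU, V, hV, hxV, e, hsm⟩ := Smooth.exists_isStandardSmooth π x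
  algebraize [(π.appLE U V e).hom]
  obtain ⟨ι, τ, _, _, ⟨Pr⟩⟩ := ‹Algebra.IsStandardSmooth Γ(Y, U) Γ(P, V)›.out
  haveI : IsAffine (V : P.Opens).toScheme := hV
  refine ⟨V, Pr.dimension, hxV, ⟨fun y => ⟨U, hU, ⊤, isAffineOpen_top _, trivial, fun z _ => e z.2, ?_⟩⟩⟩
  have hn : RingHom.IsStandardSmoothOfRelativeDimension Pr.dimension (π.appLE U V e).hom := by
    rw [RingHom.IsStandardSmoothOfRelativeDimension]
    exact ⟨ι, τ, inferInstance, inferInstance, Pr, rfl⟩
  have hcomp : (V.ι ≫ π).appLE U ⊤ (fun z _ => e z.2) = π.appLE U V e ≫ V.topIso.inv := by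
    rw [Scheme.Hom.comp_appLE, Scheme.Hom.app_eq_appLE, Scheme.Opens.topIso_inv]
    simp [Scheme.Hom.appLE]
    rw [← Functor.map_comp, ← Functor.map_comp]
    congr 2
  rw [hcomp]
  exact RingHom.isStandardSmoothOfRelativeDimension_respectsIso.1 _ V.topIso.symm.commRingCatIsoToRingEquiv hn

theorem finrank_cotangent_of_smoothOfRelativeDimension [IsAlgClosed k] {P : Scheme.{u}}
    (π : P ⟶ Spec (CommRingCat.of k)) (n : ℕ) [SmoothOfRelativeDimension n π] (x : P) (hx : IsClosed {x}) :
    Module.finrank (ResidueField (P.presheaf.stalk x)) (CotangentSpace (P.presheaf.stalk x)) = n := by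
  obtain ⟨U, hU, V, hV, hxV, e, hsm⟩ :=
    SmoothOfRelativeDimension.exists_isStandardSmoothOfRelativeDimension (n := n) (f := π) x
  have hUtop : U = ⊤ := by
    ext p
    simp only [Opens.coe_top, Set.mem_univ, iff_true]
    have h : π x = p := Subsingleton.elim (α := PrimeSpectrum k) _ _
    rw [← h]
    exact e hxV
  subst hUtop
  let A := Γ(P, V)
  letI : Algebra k A := ((π.appLE ⊤ V e).hom.comp (Scheme.ΓSpecIso (CommRingCat.of k)).inv.hom).toAlgebra
  haveI hA : Algebra.IsStandardSmoothOfRelativeDimension n k A := by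
    have h1 : RingHom.IsStandardSmoothOfRelativeDimension n
        ((π.appLE ⊤ V e).hom.comp (Scheme.ΓSpecIso (CommRingCat.of k)).symm.commRingCatIsoToRingEquiv.toRingHom) :=
      RingHom.isStandardSmoothOfRelativeDimension_respectsIso.2 _ _ hsm
    exact h1
  haveI : Algebra.IsStandardSmooth k A := Algebra.IsStandardSmoothOfRelativeDimension.isStandardSmooth n
  let m := hV.primeIdealOf ⟨x, hxV⟩
  haveI hm : m.asIdeal.IsMaximal := hV.primeIdealOf_isMaximal_of_isClosed ⟨x, hxV⟩ hx
  haveI : Nontrivial A := ⟨⟨0, 1, fun h => hm.ne_top ((Ideal.eq_top_iff_one _).2 (h ▸ m.asIdeal.zero_mem))⟩⟩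
  letI : Algebra A (P.presheaf.stalk x) := (P.presheaf.germ V x hxV).hom.toAlgebra
  haveI : IsLocalization.AtPrime (P.presheaf.stalk x) m.asIdeal := hV.isLocalization_stalk ⟨x, hxV⟩
  let eS : Localization.AtPrime m.asIdeal ≃+* P.presheaf.stalk x :=
    (IsLocalization.algEquiv m.asIdeal.primeCompl _ _).toRingEquiv
  haveI : Algebra.FiniteType k A := inferInstance
  haveI : IsNoetherianRing A := Algebra.FiniteType.isNoetherianRing k A
  haveI : IsNoetherianRing (P.presheaf.stalk x) := isNoetherianRing_of_ringEquiv _ eS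
  have h2 := Groth.L14.SmVar.finrank_fibre_eq_cotangent (k := k) m.asIdeal
  rw [Module.finrank_baseChange, Module.finrank_eq_of_rank_eq
    (Algebra.IsStandardSmoothOfRelativeDimension.rank_kaehlerDifferential n)] at h2
  rw [h2, ← IsLocalRing.spanFinrank_maximalIdeal_eq_finrank_cotangentSpace,
    ← IsLocalRing.spanFinrank_maximalIdeal_eq_finrank_cotangentSpace, ← IsLocalRing.map_ringEquiv_maximalIdeal eS]
  exact Ideal.spanFinrank_map_eq_of_ringEquiv eS _

section Tangent

variable {W : Scheme.{u}} (io : W ⟶ Q.left) [IsOpenImmersion io] (gW : spec (base k k) ⟶ W) (hgW : gW ≫ io = g.left)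

include hgW in
theorem gW_over : gW ≫ io ≫ Q.hom = 𝟙 _ ≫ sb := by
  rw [← Category.assoc, hgW, Category.id_comp]
  exact Over.w g

/-- The point of the fibre. -/
abbrev σF : specPt k ⟶ pullback (io ≫ Q.hom) sb := pullback.lift gW (𝟙 _) (gW_over sb g io gW hgW)

/-- The projection of the fibre. -/
abbrev πF : pullback (io ≫ Q.hom) sb ⟶ specPt k := pullback.snd (io ≫ Q.hom) sb

theorem σF_snd : σF sb g io gW hgW ≫ πF sb io = 𝟙 _ := pullback.lift_snd _ _ _

theorem σF_fst : σF sb g io gW hgW ≫ pullback.fst (io ≫ Q.hom) sb = gW := pullback.lift_fst _ _ _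

variable {A : Art k k}

/-- The map to the representing object of a point of the fibre. -/
def ptQ (φ : StHom (πF sb io) (σF sb g io gW hgW) A) : Over.mk (cst sb A) ⟶ Q :=
  Over.homMk (φ.pt ≫ pullback.fst _ _ ≫ io) (by
    show (φ.pt ≫ pullback.fst (io ≫ Q.hom) sb ≫ io) ≫ Q.hom = cst sb A
    rw [Category.assoc, Category.assoc, pullback.condition, ← Category.assoc, φ.pt_π]
    )

theorem gp_ptQ (φ : StHom (πF sb io) (σF sb g io gW hgW) A) :
    gp (toBase A) (w0 sb A) ≫ ptQ sb g io gW hgW φ = g := Over.OverMorphism.ext (by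
  show specMap (toBase A) ≫ φ.pt ≫ pullback.fst _ _ ≫ io = g.left
  rw [← Category.assoc, show specMap (toBase A) ≫ φ.pt = σF sb g io gW hgW from φ.specRes_pt, ← Category.assoc,
    σF_fst, hgW])

/-- The deformation of a point of the fibre. -/
def ofPtF (φ : StHom (πF sb io) (σF sb g io gW hgW) A) : Def0 f E sb K₀ A :=
  ⟨⟨FGA.quotPull f E (ptQ sb g io gW hgW φ) Ku.1, quotPull_mem f E (ptQ sb g io gW hgW φ) Ku⟩, by
    show FGA.quotPull f E (gp (toBase A) (w0 sb A)) (FGA.quotPull f E (ptQ sb g io gW hgW φ) Ku.1) = K₀.1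
    rw [← quotPull_comp, gp_ptQ, hg]⟩

theorem ofPtF_map {B : Art k k} (μ : A ⟶ B) (φ : StHom (πF sb io) (σF sb g io gW hgW) A) :
    ofPtF f E Ku sb K₀ g hg io gW hgW (φ.map μ) = (ofPtF f E Ku sb K₀ g hg io gW hgW φ).map f E sb K₀ μ := by
  refine Subtype.ext (Subtype.ext ?_)
  show FGA.quotPull f E (ptQ sb g io gW hgW (φ.map μ)) Ku.1 =
    FGA.quotPull f E (gp μ (wP sb μ)) (FGA.quotPull f E (ptQ sb g io gW hgW φ) Ku.1)
  rw [← quotPull_comp]
  refine congrArg (fun e => FGA.quotPull f E e Ku.1) (Over.OverMorphism.ext ?_)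
  show (φ.map μ).pt ≫ pullback.fst _ _ ≫ io = specMap μ ≫ φ.pt ≫ pullback.fst _ _ ≫ io
  rw [Groth.L14.LocHilb.StHom.pt_map, Category.assoc]

include hQ in
theorem ofPtF_bijective (A : Art k k) : Function.Bijective (ofPtF f E Ku sb K₀ g hg io gW hgW (A := A)) := by
  haveI : IsLocallyNoetherian (Over.mk (cst sb A)).left :=
    inferInstanceAs (IsLocallyNoetherian (Spec (CommRingCat.of A)))
  haveI : IsLocallyNoetherian (Over.mk sb).left :=
    inferInstanceAs (IsLocallyNoetherian (Spec (CommRingCat.of k)))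
  refine ⟨fun φ ψ h => StHom.pt_injective ?_, fun L => ?_⟩
  · obtain ⟨e, -, hu⟩ := hQ.2 (Over.mk (cst sb A)) (ofPtF f E Ku sb K₀ g hg io gW hgW φ).1
    have e1 := congrArg CommaMorphism.left ((hu (ptQ sb g io gW hgW φ) rfl).trans
      (hu (ptQ sb g io gW hgW ψ) (congrArg (fun K => (K : Def0 f E sb K₀ A).1.1) h).symm).symm)
    refine pullback.hom_ext ((cancel_mono io).1 ?_) (φ.pt_π.trans ψ.pt_π.symm)
    rw [Category.assoc, Category.assoc]
    exact e1
  · obtain ⟨e, he, -⟩ := hQ.2 (Over.mk (cst sb A)) L.1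
    obtain ⟨g₀, -, hu⟩ := hQ.2 (Over.mk sb) K₀
    have e0 : gp (toBase A) (w0 sb A) ≫ e = g :=
      (hu _ ((quotPull_comp f E _ e Ku.1).trans ((congrArg _ he).trans L.2))).trans (hu g hg).symm
    have e0' : specRes A ≫ e.left = g.left := congrArg CommaMorphism.left e0
    have hsub : Set.range e.left ⊆ Set.range io := by
      rintro _ ⟨z, rfl⟩
      have hz : z = specRes A (closedPoint k) := Subsingleton.elim (α := PrimeSpectrum A) _ _
      rw [hz]
      exact ⟨gW (closedPoint k), ((Scheme.Hom.comp_apply gW io _).symm.trans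
        (congrArg (fun h : spec (base k k) ⟶ Q.left => h (closedPoint k)) (hgW.trans e0'.symm))).trans
          (Scheme.Hom.comp_apply (specRes A) e.left _)⟩
    let e' := IsOpenImmersion.lift io e.left hsub
    have he' : e' ≫ io = e.left := IsOpenImmersion.lift_fac _ _ _
    let t : spec A ⟶ pullback (io ≫ Q.hom) sb := pullback.lift e' (specOver A) (by
      rw [← Category.assoc, he']
      exact Over.w e)
    obtain ⟨φ, hφ⟩ := StHom.exists_pt (π := πF sb io) (σ := σF sb g io gW hgW) t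
      (pullback.lift_snd _ _ _) (pullback.hom_ext ((cancel_mono io).1 (by
        rw [Category.assoc, Category.assoc, pullback.lift_fst_assoc, he', e0', σF_fst, hgW]))
        (by
          rw [Category.assoc, pullback.lift_snd, σF_snd]
          show specMap (toBase A) ≫ specMap (ofBase A) = 𝟙 _
          rw [← specMap_comp, eq_toBase (ofBase A ≫ toBase A), specMap_toBase_base]))
    refine ⟨φ, Subtype.ext (Subtype.ext ?_)⟩
    show FGA.quotPull f E (ptQ sb g io gW hgW φ) Ku.1 = L.1.1
    rw [show ptQ sb g io gW hgW φ = e from Over.OverMorphism.ext (by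
      show φ.pt ≫ pullback.fst _ _ ≫ io = e.left
      rw [hφ, pullback.lift_fst_assoc, he']), he]

include hQ hg hEf hE in
theorem finrank_cotangent_fibre :
    Module.finrank (ResidueField ((pullback (io ≫ Q.hom) sb).presheaf.stalk (σF sb g io gW hgW (closedPoint k))))
        (CotangentSpace ((pullback (io ≫ Q.hom) sb).presheaf.stalk (σF sb g io gW hgW (closedPoint k)))) =
      (letI : (PicF.XT f (Over.mk sb)).Over (Spec (CommRingCat.of k)) := ⟨PicF.XTproj f (Over.mk sb)⟩
      Module.finrank k (Subobject.underlying.obj K₀.1 ⟶ cokernel K₀.1.arrow)) := by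
  let π := πF sb io
  let σ' := σF sb g io gW hgW
  have hσ : σ' ≫ π = 𝟙 _ := σF_snd sb g io gW hgW
  letI : Algebra k (St σ') := stAlg π σ'
  have halg : algebraMap k (St σ') = (stMap π σ').hom := rfl
  letI : (PicF.XT f (Over.mk sb)).Over (Spec (CommRingCat.of k)) := ⟨PicF.XTproj f (Over.mk sb)⟩
  refine (finrank_cotangent_eq π σ' hσ halg).trans ?_
  let P : (CotangentSpace (St σ') →ₗ[k] k) → Def0 f E sb K₀ (dual k k) := fun l =>
    ofPtF f E Ku sb K₀ g hg io gW hgW (ptOfDual π σ' hσ halg l)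
  let T : (CotangentSpace (St σ') →ₗ[k] k) →ₗ[k] (Subobject.underlying.obj K₀.1 ⟶ cokernel K₀.1.arrow) :=
    { toFun := fun l => tHom f E sb hEf K₀ (P l)
      map_add' := fun l l' => by
        have h := tHom_plus f E sb hEf K₀ (ofPtF f E Ku sb K₀ g hg io gW hgW (ptOfPair π σ' hσ halg l l'))
        rw [← ofPtF_map, ← ofPtF_map, ← ofPtF_map, ptOfPair_pr₁, ptOfPair_pr₂, ptOfPair_plus] at h
        exact h
      map_smul' := fun c l => by
        have h := tHom_scale f E sb hEf K₀ c (P l)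
        rw [← ofPtF_map, ptOfDual_scale] at h
        rw [RingHom.id_apply, KLin.smul_def, Formal.smulMod, ← smulMod_eq]
        exact h }
  have hT : Function.Bijective T := (tHom_bijective f E sb hEf hE K₀).comp
    ((ofPtF_bijective f E Ku hQ sb K₀ g hg io gW hgW (dual k k)).comp (ptOfDual_bijective π σ' hσ halg))
  exact (LinearEquiv.ofBijective T hT).finrank_eq

end Tangent

include hEf hE hQ hsb hg in
theorem smoothOfRelativeDimension_at [IsAlgClosed k] [IsLocallyNoetherian S] [LocallyOfFiniteType Q.hom]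
    [HasExt.{u} (PicF.XT f (Over.mk sb)).Modules]
    (hExt : Subsingleton (Abelian.Ext.{u} (Subobject.underlying.obj K₀.1) (cokernel K₀.1.arrow) 1)) :
    ∃ U : Q.left.Opens, g.left (closedPoint k) ∈ U ∧
      SmoothOfRelativeDimension
        (letI : (PicF.XT f (Over.mk sb)).Over (Spec (CommRingCat.of k)) := ⟨PicF.XTproj f (Over.mk sb)⟩
        Module.finrank k (Subobject.underlying.obj K₀.1 ⟶ cokernel K₀.1.arrow))
        (U.ι ≫ Q.hom) := by
  obtain ⟨U, hxU, hsm⟩ := smooth_at f E hEf hE σ Ku hQ sb hsb K₀ g hg hExt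
  haveI := hsm
  obtain ⟨W, n, hxW, hn⟩ := exists_relativeDimension (U.ι ≫ Q.hom) ⟨g.left (closedPoint k), hxU⟩
  haveI := hn
  have hxV : g.left (closedPoint k) ∈ U.ι ''ᵁ W := ⟨⟨g.left (closedPoint k), hxU⟩, hxW, rfl⟩
  let V : Q.left.Opens := U.ι ''ᵁ W
  haveI hV : SmoothOfRelativeDimension n (V.ι ≫ Q.hom) := by
    have e : V.ι ≫ Q.hom = (U.ι.isoImage W).inv ≫ W.ι ≫ U.ι ≫ Q.hom := by
      rw [← Scheme.Hom.isoImage_inv_ι U.ι W, Category.assoc, Category.assoc]
    rw [e]
    exact (MorphismProperty.cancel_left_of_respectsIso (@SmoothOfRelativeDimension n) _ _).2 hn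
  have hrange : Set.range g.left ⊆ Set.range V.ι := by
    rintro _ ⟨z, rfl⟩
    rw [show z = closedPoint k from Subsingleton.elim (α := PrimeSpectrum k) _ _, Scheme.Opens.range_ι]
    exact hxV
  let gW : spec (base k k) ⟶ V.toScheme := IsOpenImmersion.lift V.ι g.left hrange
  have hgW : gW ≫ V.ι = g.left := IsOpenImmersion.lift_fac _ _ _
  haveI : SmoothOfRelativeDimension n (πF sb V.ι) :=
    (smoothOfRelativeDimension_isStableUnderBaseChange (n := n)).of_isPullback
      (IsPullback.of_hasPullback (V.ι ≫ Q.hom) sb) hV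
  let σ' : specPt k ⟶ pullback (V.ι ≫ Q.hom) sb := σF sb g V.ι gW hgW
  have hclosed : IsClosed {σ' (closedPoint k)} := by
    haveI : LocallyOfFiniteType (πF sb V.ι) := by
      haveI : Smooth (πF sb V.ι) := SmoothOfRelativeDimension.smooth n _
      infer_instance
    haveI : JacobsonSpace (pullback (V.ι ≫ Q.hom) sb : Scheme.{u}) :=
      LocallyOfFiniteType.jacobsonSpace (πF sb V.ι)
    haveI : LocallyOfFiniteType (σ' ≫ πF sb V.ι) := by
      rw [show σ' ≫ πF sb V.ι = 𝟙 _ from σF_snd sb g V.ι gW hgW]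
      infer_instance
    haveI : LocallyOfFiniteType σ' := locallyOfFiniteType_of_comp σ' (πF sb V.ι)
    have h : closedPoint k ∈ closedPoints (specPt k) := by
      have h' : IsClosed ({closedPoint k} : Set (PrimeSpectrum k)) := isClosed_singleton
      exact h'
    exact σ'.closePoints_subset_preimage_closedPoints h
  have h1 := finrank_cotangent_of_smoothOfRelativeDimension (πF sb V.ι) n (σ' (closedPoint k)) hclosed
  have h2 := finrank_cotangent_fibre f E hEf hE Ku hQ sb K₀ g hg V.ι gW hgW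
  refine ⟨V, hxV, ?_⟩
  rw [← h1.symm.trans h2]
  exact hV

end Groth.L14.Quot
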