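import Groth.Agent.L20.Infinitesimal.Flat
import Groth.Agent.L17.ThickBasic
import Groth.Agent.L07.RegImmPresent
import Groth.Agent.L07.FlatFamilyScheme

/-!
# Schemes over an Artinian ring, at the level of local rings
-/

set_option autoImplicit false
set_option linter.style.haveILetI false
set_option backward.isDefEq.respectTransparency false
set_option backward.isDefEq.respectTransparency.types false

universe u

open CategoryTheory CategoryTheory.Limits AlgebraicGeometry TopologicalSpace Opposite

noncomputable section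

namespace Groth.L14.Quot

variable {B A : CommRingCat.{u}} {Y Y' : Scheme.{u}}

/-- The base ring maps to the local rings of a scheme over it. -/
def β (f : Y ⟶ Spec B) (y : Y) : B →+* Y.presheaf.stalk y :=
  ((StructureSheaf.toStalk B (f y)) ≫ f.stalkMap y).hom

theorem β_eq_germ (f : Y ⟶ Spec B) (y : Y) (b : B) :
    β f y b = Y.presheaf.germ ⊤ y trivial (f.appTop ((Scheme.ΓSpecIso B).inv b)) :=
  Scheme.Hom.germ_stalkMap_apply f ⊤ y trivial ((Scheme.ΓSpecIso B).inv b)

theorem stalkMap_β (p : B ⟶ A) {f : Y ⟶ Spec B} {f' : Y' ⟶ Spec A} {i : Y' ⟶ Y} (w : i ≫ f = f' ≫ Spec.map p)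
    (y : Y') (b : B) : (i.stalkMap y).hom (β f (i y) b) = β f' y (p b) := by
  rw [β_eq_germ, β_eq_germ]
  refine (Scheme.Hom.germ_stalkMap_apply i ⊤ y trivial _).trans (congrArg (Y'.presheaf.germ ⊤ y trivial) ?_)
  have h1 : (Scheme.ΓSpecIso A).inv (p b) = (Spec.map p).appTop ((Scheme.ΓSpecIso B).inv b) :=
    ConcreteCategory.congr_hom (Scheme.ΓSpecIso_inv_naturality p) b
  rw [h1]
  have h2 := congrArg (fun k : Y' ⟶ Spec B => k.appTop ((Scheme.ΓSpecIso B).inv b)) w
  simp only [Scheme.Hom.comp_appTop] at h2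
  exact h2

/-- The kernel on local rings of the base change of a quotient of the base. -/
theorem ker_stalkMap_bc (p : B ⟶ A) (hp : Function.Surjective p.hom) {f : Y ⟶ Spec B} {f' : Y' ⟶ Spec A}
    {i : Y' ⟶ Y} [IsClosedImmersion i] (h : IsPullback i f' f (Spec.map p)) (y : Y') :
    RingHom.ker (i.stalkMap y).hom = (RingHom.ker p.hom).map (β f (i y)) := by
  haveI : IsClosedImmersion (Spec.map p) := IsClosedImmersion.spec_of_surjective p hp
  rw [Groth.L20.Infinitesimal.ker_stalkMap, Groth.L17.Thick.ker_of_isPullback h, Groth.L20.SeeNormal.sI_comap,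
    Groth.L20.SeeNormal.sI_eq _ ⟨⊤, isAffineOpen_top _⟩ (show f (i y) ∈ (⊤ : (Spec B).Opens) from trivial),
    Scheme.Hom.ker_apply, Ideal.map_map]
  have h2 : RingHom.ker ((Spec.map p).app ⊤).hom = (RingHom.ker p.hom).map (Scheme.ΓSpecIso B).inv.hom :=
    Groth.L07.RegImmPresent.ker_appTop_spec p.hom
  rw [h2, Ideal.map_map]
  rfl

theorem surjective_bc (p : B ⟶ A) (hp : Function.Surjective p.hom) (hn : IsNilpotent (RingHom.ker p.hom))
    {f : Y ⟶ Spec B} {f' : Y' ⟶ Spec A} {i : Y' ⟶ Y} (h : IsPullback i f' f (Spec.map p)) :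
    Function.Surjective i := by
  haveI : Surjective (Spec.map p) := ⟨fun q => by
    have hq : q.asIdeal ∈ Set.range (fun r : Spec A => (Spec.map p r).asIdeal) := by
      have hle : RingHom.ker p.hom ≤ q.asIdeal := by
        obtain ⟨n, hn⟩ := hn
        refine fun a ha => q.2.mem_of_pow_mem n ?_
        have h0 := Ideal.pow_mem_pow ha n
        rw [hn, Ideal.zero_eq_bot, Submodule.mem_bot] at h0
        rw [h0]
        exact zero_mem _
      exact ⟨⟨q.asIdeal.map p.hom, Ideal.map_isPrime_of_surjective hp hle⟩,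
        (Ideal.comap_map_of_surjective' _ hp q.asIdeal).trans (sup_eq_left.2 hle)⟩
    obtain ⟨r, hr⟩ := hq
    exact ⟨r, PrimeSpectrum.ext hr⟩⟩
  haveI : Surjective i := MorphismProperty.of_isPullback h.flip ‹_›
  exact i.surjective

/-- Flatness over an Artinian local base is flatness over its ring. -/
theorem isFlatOverAt_iff_β (f : Y ⟶ Spec B) (M : Y.Modules) (y : Y) :
    FlatMod.IsFlatOverAt f M y ↔ @Module.Flat B (M.presheaf.stalk y) _ _ (Module.compHom _ (β f y)) := by
  let b := f y
  letI : Module B (M.presheaf.stalk y) := Module.compHom _ (β f y)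
  letI : Algebra B ((Spec B).presheaf.stalk b) := (StructureSheaf.toStalk B b).hom.toAlgebra
  haveI : IsLocalization.AtPrime ((Spec B).presheaf.stalk b) b.asIdeal := StructureSheaf.IsLocalization.to_stalk B b
  letI := FlatMod.moduleStalkOver f M y
  haveI : IsScalarTower B ((Spec B).presheaf.stalk b) (M.presheaf.stalk y) :=
    IsScalarTower.of_algebraMap_smul fun r m => rfl
  exact Module.flat_iff_of_isLocalization ((Spec B).presheaf.stalk b) b.asIdeal.primeCompl (M.presheaf.stalk y)

end Groth.L14.Quot
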