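import Groth.Agent.L01.NilDescent

/-!
# Small extensions and flat quotients of a flat module

`B` has nilpotent maximal ideal `m`, `t ∈ m` has annihilator `m`, `A = B/(t)`, `P` is flat over `B` and `K ⊆ P`
is the kernel of a surjection of `P` onto a module flat over `A`.
-/

set_option autoImplicit false
set_option linter.style.haveILetI false
set_option linter.unusedSectionVars false

universe u

open TensorProduct Pointwise

namespace Groth.L14.Quot

variable {B : Type u} [CommRing B] (m : Ideal B) [m.IsMaximal]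

theorem free_of_flat (hm : IsNilpotent m) (M : Type u) [AddCommGroup M] [Module B M] [Module.Flat B M] :
    Module.Free B M := by
  haveI : Module.Flat B (B ⊗[B] M) := Module.Flat.of_linearEquiv (TensorProduct.lid B M)
  exact Groth.L01.NilDescent.free_of_flat_baseChange m hm B Function.injective_id M

variable {A : Type u} [CommRing A] [Algebra B A] {P : Type u} [AddCommGroup P] [Module B P] [Module.Flat B P]
  {Q : Type u} [AddCommGroup Q] [Module B Q] [Module A Q] [IsScalarTower B A Q] [Module.Flat A Q]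
  {t : B} (π : P →ₗ[B] Q)

/-- The hypotheses on a small extension. -/
structure SmallData : Prop where
  nil : IsNilpotent m
  mem : t ∈ m
  ann : ∀ b, b * t = 0 ↔ b ∈ m
  surjA : Function.Surjective (algebraMap B A)
  kerA : RingHom.ker (algebraMap B A) = Ideal.span {t}

variable {m}

theorem smul_t_eq_zero (D : SmallData m (A := A) (t := t)) {b : B} (hb : b ∈ m) : b * t = 0 := (D.ann b).2 hb

theorem smul_t_sq {V : Type u} [AddCommGroup V] [Module B V] (D : SmallData m (A := A) (t := t)) {b : B}
    (hb : b ∈ m) (v : V) : b • t • v = 0 := by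
  rw [smul_smul, smul_t_eq_zero D hb, zero_smul]

/-- A splitting of `P` adapted to the quotient. -/
theorem exists_split (D : SmallData m (A := A) (t := t)) (hπ : Function.Surjective π) :
    ∃ (ι : Type u) (lam : P →ₗ[B] ι →₀ B) (s : (ι →₀ B) →ₗ[B] P), (∀ c, lam (s c) = c) ∧
      ∀ x, x ∈ LinearMap.ker π ↔ ∃ p, lam x = t • p := by
  classical
  have hmA : (m.map (algebraMap B A)).IsMaximal := by
    refine Ideal.map_eq_top_or_isMaximal_of_surjective _ D.surjA ‹_› |>.resolve_left fun h => ?_
    refine (inferInstance : m.IsMaximal).ne_top ?_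
    rw [← sup_eq_left.2 (show Ideal.span {t} ≤ m from (Ideal.span_singleton_le_iff_mem _).2 D.mem), ← D.kerA,
      ← Ideal.comap_map_of_surjective' _ D.surjA, h, Ideal.comap_top]
  have hnA : IsNilpotent (m.map (algebraMap B A)) := by
    obtain ⟨n, hn⟩ := D.nil
    exact ⟨n, by rw [← Ideal.map_pow, hn, Ideal.zero_eq_bot, Ideal.map_bot, Ideal.zero_eq_bot]⟩
  haveI := hmA
  haveI := free_of_flat (m.map (algebraMap B A)) hnA Q
  let β := Module.Free.chooseBasis A Q
  let θ : (Module.Free.ChooseBasisIndex A Q →₀ B) →ₗ[B] Q := Finsupp.linearCombination B β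
  have hθr : ∀ c i, β.repr (θ c) i = algebraMap B A (c i) := fun c i => by
    induction c using Finsupp.induction_linear with
    | zero => simp
    | add a b ha hb => simp [map_add, ha, hb]
    | single j b =>
      rw [Finsupp.linearCombination_single, ← algebraMap_smul A b (β j), map_smul, β.repr_self]
      rcases eq_or_ne j i with rfl | h <;> simp [*, Algebra.algebraMap_eq_smul_one]
  have hθ : Function.Surjective θ := fun q => by
    refine ⟨(β.repr q).mapRange (fun a => if a = 0 then 0 else Function.surjInv D.surjA a) (by simp), β.repr.injective ?_⟩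
    refine Finsupp.ext fun i => ?_
    rw [hθr, Finsupp.mapRange_apply]
    split_ifs with h
    · rw [h, map_zero]
    · exact Function.surjInv_eq D.surjA _
  have hkerθ : ∀ c, θ c = 0 → ∃ d, c = t • d := fun c hc => by
    have hi : ∀ i, ∃ b, c i = t * b := fun i => by
      have : c i ∈ RingHom.ker (algebraMap B A) := by rw [RingHom.mem_ker, ← hθr, hc]; simp
      rw [D.kerA, Ideal.mem_span_singleton'] at this
      obtain ⟨b, hb⟩ := this
      exact ⟨b, by rw [mul_comm, hb]⟩
    choose b hb using hi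
    refine ⟨Finsupp.onFinset c.support (fun i => if i ∈ c.support then b i else 0) (by simp +contextual), ?_⟩
    refine Finsupp.ext fun i => ?_
    rw [Finsupp.smul_apply, Finsupp.onFinset_apply, smul_eq_mul]
    split_ifs with h
    · exact hb i
    · rw [Finsupp.notMem_support_iff.1 h, mul_zero]
  haveI := free_of_flat m D.nil P
  obtain ⟨lam, hlam⟩ := Module.projective_lifting_property θ π hθ
  have hlam' : ∀ p, θ (lam p) = π p := fun p => LinearMap.congr_fun hlam p
  have hsurj : Function.Surjective lam := fun c => by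
    have h1 : ∀ c, ∃ p d, c = lam p + t • d := fun c => by
      obtain ⟨p, hp⟩ := hπ (θ c)
      obtain ⟨d, hd⟩ := hkerθ (c - lam p) (by rw [map_sub, hlam', hp, sub_self])
      exact ⟨p, d, by rw [← hd]; abel⟩
    obtain ⟨p, d, rfl⟩ := h1 c
    obtain ⟨q, e, rfl⟩ := h1 d
    refine ⟨p + t • q, ?_⟩
    rw [map_add, map_smul, smul_add, smul_t_sq D D.mem, add_zero]
  obtain ⟨s, hs⟩ := Module.projective_lifting_property lam LinearMap.id hsurj
  refine ⟨_, lam, s, fun c => LinearMap.congr_fun hs c, fun x => ⟨fun hx => ?_, ?_⟩⟩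
  · exact hkerθ _ (by rw [hlam']; exact hx)
  · rintro ⟨p, hp⟩
    rw [LinearMap.mem_ker, ← hlam', hp, map_smul, ← algebraMap_smul A t (θ p),
      show algebraMap B A t = 0 from RingHom.mem_ker.1 (by rw [D.kerA]; exact Ideal.mem_span_singleton_self t),
      zero_smul]

section Split

variable {π} {ι : Type u} {lam : P →ₗ[B] ι →₀ B} {s : (ι →₀ B) →ₗ[B] P}

/-- The projection to the kernel of `lam`. -/
noncomputable def eL (lam : P →ₗ[B] ι →₀ B) (s : (ι →₀ B) →ₗ[B] P) : P →ₗ[B] P := LinearMap.id - s ∘ₗ lam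

theorem eL_add (p : P) : eL lam s p + s (lam p) = p := by simp [eL]

theorem lam_eL (hs : ∀ c, lam (s c) = c) (p : P) : lam (eL lam s p) = 0 := by simp [eL, hs]

theorem mem_smul_of_coord (J : Ideal B) (c : ι →₀ B) (h : ∀ i, c i ∈ J) : c ∈ J • (⊤ : Submodule B (ι →₀ B)) := by
  rw [← c.sum_single]
  refine Submodule.sum_mem _ fun i _ => ?_
  rw [← Finsupp.smul_single_one]
  exact Submodule.smul_mem_smul (h i) trivial

theorem eL_mem (hs : ∀ c, lam (s c) = c) (hK : ∀ x, x ∈ LinearMap.ker π ↔ ∃ p, lam x = t • p) (p : P) :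
    eL lam s p ∈ LinearMap.ker π := (hK _).2 ⟨0, by rw [lam_eL hs, smul_zero]⟩

end Split

/-- `t p ∈ m K` exactly when `p ∈ K + m P`. -/
theorem smul_t_mem_smul_iff (D : SmallData m (A := A) (t := t)) (hπ : Function.Surjective π) (p : P) :
    t • p ∈ m • LinearMap.ker π ↔ p ∈ LinearMap.ker π ⊔ m • ⊤ := by
  obtain ⟨ι, lam, s, hs, hK⟩ := exists_split π D hπ
  constructor
  · intro h
    have hmK : m • LinearMap.ker π ≤ LinearMap.ker lam := Submodule.smul_le.2 fun b hb x hx => by
      obtain ⟨q, hq⟩ := (hK x).1 hx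
      rw [LinearMap.mem_ker, map_smul, hq, smul_t_sq D hb]
    have h1 : t • lam p = 0 := (map_smul lam t p).symm.trans (hmK h)
    have h2 : ∀ i, lam p i ∈ m := fun i => (D.ann _).1 <| by
      rw [mul_comm]; exact DFunLike.congr_fun h1 i
    refine eL_add (lam := lam) (s := s) p ▸ Submodule.add_mem_sup (eL_mem hs hK p) ?_
    have := Submodule.mem_map_of_mem (f := s) (mem_smul_of_coord m _ h2)
    rw [Submodule.map_smul''] at this
    exact Submodule.smul_mono le_rfl le_top this
  · intro h
    obtain ⟨x, hx, y, hy, rfl⟩ := Submodule.mem_sup.1 h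
    rw [smul_add]
    refine add_mem (Submodule.smul_mem_smul D.mem hx) ?_
    rw [show t • y = 0 from Submodule.smul_induction_on hy (fun b hb v _ => by
      rw [smul_comm]; exact smul_t_sq D hb v) fun a b ha hb => by rw [smul_add, ha, hb, add_zero]]
    exact zero_mem _

/-- An element of `K` in `m P` lies in `t P + m K`. -/
theorem exists_of_mem_of_mem_smul (D : SmallData m (A := A) (t := t)) (hπ : Function.Surjective π) {x : P}
    (hx : x ∈ LinearMap.ker π) (hx' : x ∈ m • (⊤ : Submodule B P)) :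
    ∃ p, x - t • p ∈ m • LinearMap.ker π := by
  obtain ⟨ι, lam, s, hs, hK⟩ := exists_split π D hπ
  obtain ⟨q, hq⟩ := (hK x).1 hx
  refine ⟨s q, ?_⟩
  have h1 : x - t • s q = eL lam s x := by simp [eL, hq]
  rw [h1]
  have h2 := Submodule.mem_map_of_mem (f := eL lam s) hx'
  rw [Submodule.map_smul''] at h2
  exact Submodule.smul_mono le_rfl (show Submodule.map (eL lam s) ⊤ ≤ LinearMap.ker π by
    rintro _ ⟨p, -, rfl⟩
    exact eL_mem hs hK p) h2

theorem smul_t_mem_ker (D : SmallData m (A := A) (t := t)) (p : P) : t • p ∈ LinearMap.ker π := by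
  rw [LinearMap.mem_ker, map_smul, ← algebraMap_smul A t (π p),
    show algebraMap B A t = 0 from RingHom.mem_ker.1 (by rw [D.kerA]; exact Ideal.mem_span_singleton_self t),
    zero_smul]

/-- The candidate submodules give flat quotients. -/
theorem flat_quotient (D : SmallData m (A := A) (t := t)) (hπ : Function.Surjective π) (K' : Submodule B P)
    (hle : K' ≤ LinearMap.ker π) (hsum : ∀ x ∈ LinearMap.ker π, ∃ p, x - t • p ∈ K')
    (hcap : ∀ p, t • p ∈ K' ↔ p ∈ LinearMap.ker π ⊔ m • ⊤) : Module.Flat B (P ⧸ K') := by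
  obtain ⟨ι, lam, s, hs, hK⟩ := exists_split π D hπ
  let ψ : (ι →₀ B) →ₗ[B] P ⧸ K' := K'.mkQ ∘ₗ s
  have htK : ∀ x ∈ LinearMap.ker π, t • x ∈ K' := fun x hx => (hcap x).2 (Submodule.mem_sup_left hx)
  refine Module.Flat.of_linearEquiv (LinearEquiv.ofBijective ψ ⟨?_, fun z => ?_⟩).symm
  · rw [← LinearMap.ker_eq_bot, LinearMap.ker_eq_bot']
    intro c hc
    have h1 : s c ∈ K' := (Submodule.Quotient.mk_eq_zero K').1 hc
    obtain ⟨q, hq⟩ := (hK _).1 (hle h1)
    rw [hs] at hq
    have h2 : t • s q ∈ K' := by rwa [← map_smul, ← hq]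
    obtain ⟨x, hx, y, hy, e⟩ := Submodule.mem_sup.1 ((hcap _).1 h2)
    obtain ⟨r, hr⟩ := (hK x).1 hx
    rw [hq, ← hs q, ← e, map_add, smul_add, hr, smul_t_sq D D.mem, zero_add]
    have h3 := Submodule.mem_map_of_mem (f := lam) hy
    rw [Submodule.map_smul''] at h3
    exact Submodule.smul_induction_on h3 (fun b hb v _ => by rw [smul_comm]; exact smul_t_sq D hb v)
      fun a b ha hb => by rw [smul_add, ha, hb, add_zero]
  · obtain ⟨p, rfl⟩ := K'.mkQ_surjective z
    obtain ⟨p', hp'⟩ := hsum _ (eL_mem hs hK p)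
    refine ⟨lam p + t • lam p', (Submodule.Quotient.eq K').2 ?_⟩
    have h4 : s (lam p + t • lam p') - p = -(eL lam s p - t • p') - t • eL lam s p' := by
      simp only [eL, map_add, map_smul, LinearMap.sub_apply, LinearMap.id_apply, LinearMap.comp_apply, smul_sub]
      abel
    rw [h4]
    exact sub_mem (neg_mem hp') (htK _ (eL_mem hs hK p'))

/-- For a flat quotient `t p ∈ K''` forces `p ∈ K'' + m P`. -/
theorem mem_of_smul_t_mem (D : SmallData m (A := A) (t := t)) (K'' : Submodule B P) [Module.Flat B (P ⧸ K'')]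
    {p : P} (h : t • p ∈ K'') : p ∈ K'' ⊔ m • ⊤ := by
  haveI := free_of_flat m D.nil (P ⧸ K'')
  let β := Module.Free.chooseBasis B (P ⧸ K'')
  have h0 : t • K''.mkQ p = 0 := by rw [← map_smul]; exact (Submodule.Quotient.mk_eq_zero K'').2 h
  have h2 : ∀ i, β.repr (K''.mkQ p) i ∈ m := fun i => (D.ann _).1 <| by
    have := DFunLike.congr_fun (congrArg β.repr h0) i
    rw [mul_comm]
    simpa using this
  have h3 : K''.mkQ p ∈ m • (⊤ : Submodule B (P ⧸ K'')) := by
    have := Submodule.mem_map_of_mem (f := β.repr.symm.toLinearMap) (mem_smul_of_coord m _ h2)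
    rw [Submodule.map_smul''] at this
    simpa using Submodule.smul_mono le_rfl le_top this
  have h4 : (m • (⊤ : Submodule B P)).map K''.mkQ = m • ⊤ := by
    rw [Submodule.map_smul'', Submodule.map_top, Submodule.range_mkQ]
  rw [← h4] at h3
  obtain ⟨y, hy, e⟩ := h3
  exact Submodule.mem_sup.2 ⟨p - y, (Submodule.Quotient.eq K'').1 e.symm, y, hy, sub_add_cancel p y⟩

end Groth.L14.Quot
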