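import Groth.Agent.L14.Quot.Lift
import Groth.Agent.L12.ArtBasic
import Groth.Prelude.Def_ArtFun6
import Mathlib.Algebra.Homology.DerivedCategory.Ext.ExactSequences

/-!
# Quotients over Artinian algebras: lifts along surjections
-/

set_option autoImplicit false
set_option linter.style.haveILetI false
set_option linter.unusedSectionVars false
set_option backward.isDefEq.respectTransparency false
set_option backward.isDefEq.respectTransparency.types false

universe u v

open CategoryTheory CategoryTheory.Limits AlgebraicGeometry TopologicalSpace Opposite ArtFun ArtFun.Art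

noncomputable section

namespace Groth.L14.Quot

theorem quotPull_id {X S : Scheme.{u}} (f : X ⟶ S) (E : X.Modules) (T : Over S) (K : Subobject (FGA.ET f E T)) :
    FGA.quotPull f E (𝟙 T) K = K := by
  have h : PicF.XTmap f (𝟙 T) = 𝟙 _ := by apply pullback.hom_ext <;> simp [PicF.XTmap]
  haveI : IsClosedImmersion (PicF.XTmap f (𝟙 T)) := by rw [h]; infer_instance
  conv_lhs => rw [← quotPull_preSub f E (𝟙 T) K]
  rw [← quotPull_comp, Category.id_comp, quotPull_preSub]

theorem exists_retraction_of_ext {C : Type*} [Category C] [Abelian C] [HasExt.{v} C] {S : ShortComplex C}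
    (hS : S.ShortExact) (h : Subsingleton (Abelian.Ext.{v} S.X₃ S.X₁ 1)) : ∃ r : S.X₂ ⟶ S.X₁, S.f ≫ r = 𝟙 _ := by
  obtain ⟨z, hz⟩ := Abelian.Ext.contravariant_sequence_exact₁ hS S.X₁ (Abelian.Ext.mk₀ (𝟙 S.X₁)) (zero_add 1 : 1 + 0 = 1)
    (Subsingleton.elim _ _)
  obtain ⟨r, rfl⟩ := (Abelian.Ext.mk₀_bijective S.X₂ S.X₁).2 z
  rw [Abelian.Ext.mk₀_comp_mk₀] at hz
  exact ⟨r, (Abelian.Ext.mk₀_bijective S.X₁ S.X₁).1 hz⟩

variable {k : Type u} [Field k] {X S : Scheme.{u}} (f : X ⟶ S) (E : X.Modules)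

/-- The ring map of a map of algebras. -/
abbrev rh {B A : Art k k} (p : B ⟶ A) : CommRingCat.of B ⟶ CommRingCat.of A :=
  CommRingCat.ofHom p.toAlgHom.toRingHom

/-- The map of test schemes of a map of algebras. -/
abbrev gp {B A : Art k k} (p : B ⟶ A) {sB : spec B ⟶ S} {sA : spec A ⟶ S} (w : specMap p ≫ sB = sA) :
    Over.mk sA ⟶ Over.mk sB := Over.homMk (specMap p) w

theorem gp_comp {C B A : Art k k} (p : C ⟶ B) (q : B ⟶ A) {sC : spec C ⟶ S} {sB : spec B ⟶ S} {sA : spec A ⟶ S}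
    (wp : specMap p ≫ sC = sB) (wq : specMap q ≫ sB = sA) (w : specMap (p ≫ q) ≫ sC = sA) :
    gp (p ≫ q) w = gp q wq ≫ gp p wp :=
  Over.OverMorphism.ext (specMap_comp p q)

theorem comp_w {C B A : Art k k} (p : C ⟶ B) (q : B ⟶ A) {sC : spec C ⟶ S} {sB : spec B ⟶ S} {sA : spec A ⟶ S}
    (wp : specMap p ≫ sC = sB) (wq : specMap q ≫ sB = sA) : specMap (p ≫ q) ≫ sC = sA := by
  rw [specMap_comp, Category.assoc, wp, wq]

theorem quotPull_gp_comp {C B A : Art k k} (p : C ⟶ B) (q : B ⟶ A) {sC : spec C ⟶ S} {sB : spec B ⟶ S}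
    {sA : spec A ⟶ S} (wp : specMap p ≫ sC = sB) (wq : specMap q ≫ sB = sA) (w : specMap (p ≫ q) ≫ sC = sA)
    (K : Subobject (FGA.ET f E (Over.mk sC))) :
    FGA.quotPull f E (gp (p ≫ q) w) K = FGA.quotPull f E (gp q wq) (FGA.quotPull f E (gp p wp) K) := by
  rw [gp_comp p q wp wq w, quotPull_comp]

theorem quotPull_gp_toBase {B A : Art k k} (p : B ⟶ A) {sB : spec B ⟶ S} {sA : spec A ⟶ S}
    {s0 : spec (base k k) ⟶ S} (w : specMap p ≫ sB = sA) (w0 : specMap (toBase A) ≫ sA = s0)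
    (w' : specMap (toBase B) ≫ sB = s0) (K : Subobject (FGA.ET f E (Over.mk sB))) :
    FGA.quotPull f E (gp (toBase B) w') K =
      FGA.quotPull f E (gp (toBase A) w0) (FGA.quotPull f E (gp p w) K) := by
  have e := eq_toBase (p ≫ toBase A)
  have h : gp (toBase B) w' = gp (toBase A) w0 ≫ gp p w := Over.OverMorphism.ext (by
    show specMap (toBase B) = specMap (toBase A) ≫ specMap p
    rw [← e, specMap_comp])
  rw [h, quotPull_comp]

/-- The quotient pulled back along a map of algebras. -/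
def pullQ {B A : Art k k} (p : B ⟶ A) {sB : spec B ⟶ S} {sA : spec A ⟶ S} (w : specMap p ≫ sB = sA)
    (K : FGA.QuotSet f E (Over.mk sB)) : FGA.QuotSet f E (Over.mk sA) :=
  ⟨FGA.quotPull f E (gp p w) K.1, quotPull_mem f E (gp p w) K⟩

theorem exists_sExt {B A : Art k k} (p : B ⟶ A) (hp : IsSmallExt p) :
    ∃ t : B, SExt (rh p) (rh (toBase A)) t := by
  obtain ⟨hs, hne, hprin, hm⟩ := hp
  obtain ⟨t, ht⟩ := hprin.principal
  have hker : RingHom.ker (rh p ≫ rh (toBase A)).hom = IsLocalRing.maximalIdeal B := by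
    ext b
    rw [B.mem_maximalIdeal_iff, RingHom.mem_ker]
    show A.res (p b) = 0 ↔ _
    rw [show A.res (p b) = B.res b from AlgHom.congr_fun p.res_comp b]
  have htm : ∀ b ∈ IsLocalRing.maximalIdeal B, b * t = 0 := fun b hb => by
    have := Ideal.mul_mem_mul hb (show t ∈ RingHom.ker p.toAlgHom from ht ▸ Submodule.mem_span_singleton_self t)
    rwa [hm, Ideal.mem_bot] at this
  have ht0 : t ≠ 0 := fun h => hne (by rw [ht, h, Submodule.span_zero_singleton])
  refine ⟨t, hs, fun a => A.res_surjective a, hker ▸ inferInstance, ?_, ?_, fun b => ?_, ht⟩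
  · rw [hker, ← IsLocalRing.jacobson_eq_maximalIdeal ⊥ bot_ne_top]
    exact IsArtinianRing.isNilpotent_jacobson_bot
  · rw [hker, B.mem_maximalIdeal_iff, ← AlgHom.congr_fun p.res_comp t]
    show A.res (p t) = 0
    rw [show p t = 0 from RingHom.mem_ker.1 (ht ▸ Submodule.mem_span_singleton_self t : t ∈ RingHom.ker p.toAlgHom),
      map_zero]
  · rw [hker]
    refine ⟨fun h => ?_, htm b⟩
    by_contra hb
    exact ht0 (((IsLocalRing.notMem_maximalIdeal.1 hb).mul_right_eq_zero).1 h)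

theorem isFlatOver_field {X : Scheme.{u}} (x : X ⟶ Spec (CommRingCat.of k)) (E : X.Modules) :
    FlatMod.IsFlatOver x E := fun y => by
  rw [isFlatOverAt_iff_β]
  letI : Module k (E.presheaf.stalk y) := Module.compHom _ (β x y)
  exact (inferInstance : Module.Flat k (E.presheaf.stalk y))

variable (hEf : FlatMod.IsFlatOver f E)

include hEf in
theorem isFlatOver_ET (T : Over S) : FlatMod.IsFlatOver (PicF.XTproj f T) (FGA.ET f E T) :=
  Groth.L29.DC.RelBC.isFlatOver_pullback (IsPullback.of_hasPullback f T.hom) hEf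

variable {s0 : spec (base k k) ⟶ S} (K₀ : FGA.QuotSet f E (Over.mk s0))

include hEf in
/-- Lifts exist when `Ext¹(K₀, Q₀) = 0`. -/
theorem exists_lift_of_ext (hE : Coh.IsCoh E) [HasExt.{u} (PicF.XT f (Over.mk s0)).Modules]
    (h : Subsingleton (Abelian.Ext.{u} (Subobject.underlying.obj K₀.1) (cokernel K₀.1.arrow) 1))
    {B A : Art k k} (p : B ⟶ A) (hp : Function.Surjective p) :
    ∀ {sB : spec B ⟶ S} {sA : spec A ⟶ S} (w : specMap p ≫ sB = sA) (w0 : specMap (toBase A) ≫ sA = s0)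
      (K : FGA.QuotSet f E (Over.mk sA)), FGA.quotPull f E (gp (toBase A) w0) K.1 = K₀.1 →
      ∃ K' : FGA.QuotSet f E (Over.mk sB), FGA.quotPull f E (gp p w) K'.1 = K.1 := by
  refine Groth.L12.surjective_induction (fun A B p => ∀ {sB : spec B ⟶ S} {sA : spec A ⟶ S}
    (w : specMap p ≫ sB = sA) (w0 : specMap (toBase A) ≫ sA = s0) (K : FGA.QuotSet f E (Over.mk sA)),
      FGA.quotPull f E (gp (toBase A) w0) K.1 = K₀.1 →
        ∃ K' : FGA.QuotSet f E (Over.mk sB), FGA.quotPull f E (gp p w) K'.1 = K.1)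
    (fun A B e he sB sA w w0 K _ => ?_) ?_ ?_ p hp
  · have w' : specMap (inv e) ≫ sA = sB := by
      rw [← w, ← Category.assoc, ← specMap_comp, IsIso.hom_inv_id, specMap_id, Category.id_comp]
    refine ⟨pullQ f E (inv e) w' K, ?_⟩
    show FGA.quotPull f E (gp e w) (FGA.quotPull f E (gp (inv e) w') K.1) = K.1
    have h1 : gp e w ≫ gp (inv e) w' = 𝟙 (Over.mk sA) := Over.OverMorphism.ext (by
      show specMap e ≫ specMap (inv e) = 𝟙 _
      rw [← specMap_comp, IsIso.inv_hom_id, specMap_id])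
    rw [← quotPull_comp, h1, quotPull_id]
  · intro A B p hp sB sA w w0 K hK
    obtain ⟨t, H⟩ := exists_sExt p hp
    have hKc : Kc f E (p := rh p) (q := rh (toBase A)) w w0 K = K₀.1 := (Kc_eq f E w w0 H K).trans hK
    have hS := shortExact_liftSeq f E w w0 H (isFlatOver_ET f E hEf _) K
    have hsub : Subsingleton (Abelian.Ext.{u} (liftSeq f E w w0 H (isFlatOver_ET f E hEf _) K).X₃
        (liftSeq f E w w0 H (isFlatOver_ET f E hEf _) K).X₁ 1) := by
      show Subsingleton (Abelian.Ext.{u} (Subobject.underlying.obj (Kc f E (p := rh p) (q := rh (toBase A)) w w0 K))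
        (cokernel (Kc f E (p := rh p) (q := rh (toBase A)) w w0 K).arrow) 1)
      rw [hKc]
      exact h
    obtain ⟨r, hr⟩ := exists_retraction_of_ext hS hsub
    exact ⟨⟨liftSub f E w w0 K r, isCoh_liftSub f E w w0 H K (Groth.L16.AffineBC.isCoh_pullback _ hE) r,
      isFlatOver_liftSub f E w w0 H (isFlatOver_ET f E hEf _) K hr⟩,
      quotPull_liftSub f E w w0 H (isFlatOver_ET f E hEf _) K hr⟩
  · intro A B C p q hp hq sC sA w w0 K hK
    have wq : specMap q ≫ (specMap p ≫ sC) = sA := by rw [← Category.assoc, ← specMap_comp, w]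
    obtain ⟨K₁, hK₁⟩ := hq wq w0 K hK
    have w1 : specMap (toBase B) ≫ (specMap p ≫ sC) = s0 := by
      rw [← eq_toBase (q ≫ toBase A), specMap_comp, Category.assoc, wq, w0]
    obtain ⟨K₂, hK₂⟩ := hp rfl w1 K₁ (by rw [quotPull_gp_toBase f E q wq w0 w1, hK₁, hK])
    exact ⟨K₂, by rw [quotPull_gp_comp f E p q rfl wq, hK₂, hK₁]⟩

include hEf in
/-- Lifts are unique when `Hom(K₀, Q₀) = 0`. -/
theorem lift_unique_of_hom (h : Subsingleton (Subobject.underlying.obj K₀.1 ⟶ cokernel K₀.1.arrow))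
    {B A : Art k k} (p : B ⟶ A) (hp : Function.Surjective p) :
    ∀ {sB : spec B ⟶ S} {sA : spec A ⟶ S} (w : specMap p ≫ sB = sA) (w0 : specMap (toBase A) ≫ sA = s0)
      (K : FGA.QuotSet f E (Over.mk sA)), FGA.quotPull f E (gp (toBase A) w0) K.1 = K₀.1 →
      ∀ K' K'' : FGA.QuotSet f E (Over.mk sB), FGA.quotPull f E (gp p w) K'.1 = K.1 →
        FGA.quotPull f E (gp p w) K''.1 = K.1 → K'.1 = K''.1 := by
  refine Groth.L12.surjective_induction (fun A B p => ∀ {sB : spec B ⟶ S} {sA : spec A ⟶ S}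
    (w : specMap p ≫ sB = sA) (w0 : specMap (toBase A) ≫ sA = s0) (K : FGA.QuotSet f E (Over.mk sA)),
    FGA.quotPull f E (gp (toBase A) w0) K.1 = K₀.1 → ∀ K' K'' : FGA.QuotSet f E (Over.mk sB),
      FGA.quotPull f E (gp p w) K'.1 = K.1 → FGA.quotPull f E (gp p w) K''.1 = K.1 → K'.1 = K''.1)
    (fun A B e he sB sA w w0 K _ K' K'' h' h'' => ?_) ?_ ?_ p hp
  · have w' : specMap (inv e) ≫ sA = sB := by
      rw [← w, ← Category.assoc, ← specMap_comp, IsIso.hom_inv_id, specMap_id, Category.id_comp]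
    have h1 : gp (inv e) w' ≫ gp e w = 𝟙 (Over.mk sB) := Over.OverMorphism.ext (by
      show specMap (inv e) ≫ specMap e = 𝟙 _
      rw [← specMap_comp, IsIso.hom_inv_id, specMap_id])
    have := congrArg (FGA.quotPull f E (gp (inv e) w')) (h'.trans h''.symm)
    rwa [← quotPull_comp, ← quotPull_comp, h1, quotPull_id, quotPull_id] at this
  · intro A B p hp sB sA w w0 K hK K' K'' h' h''
    obtain ⟨t, H⟩ := exists_sExt p hp
    have hKc : Kc f E (p := rh p) (q := rh (toBase A)) w w0 K = K₀.1 := (Kc_eq f E w w0 H K).trans hK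
    obtain ⟨r, hr, e'⟩ := exists_retraction f E w w0 H (isFlatOver_ET f E hEf _) K K'.1 K'.2.2 h'
    obtain ⟨r', hr', e''⟩ := exists_retraction f E w w0 H (isFlatOver_ET f E hEf _) K K''.1 K''.2.2 h''
    have hS := shortExact_liftSeq f E w w0 H (isFlatOver_ET f E hEf _) K
    obtain ⟨d, hd⟩ := CokernelCofork.IsColimit.desc' hS.gIsCokernel (r - r')
      (by rw [Preadditive.comp_sub]; exact sub_eq_zero.2 (hr.trans hr'.symm))
    have hd0 : d = 0 := by
      haveI : Subsingleton (Subobject.underlying.obj (Kc f E (p := rh p) (q := rh (toBase A)) w w0 K) ⟶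
          cokernel (Kc f E (p := rh p) (q := rh (toBase A)) w w0 K).arrow) := by rw [hKc]; exact h
      exact Subsingleton.elim (α := Subobject.underlying.obj (Kc f E (p := rh p) (q := rh (toBase A)) w w0 K) ⟶
          cokernel (Kc f E (p := rh p) (q := rh (toBase A)) w w0 K).arrow) _ _
    rw [hd0, comp_zero, eq_comm, sub_eq_zero] at hd
    rw [← e', ← e'', hd]
  · intro A B C p q hp hq sC sA w w0 K hK K' K'' h' h''
    have wq : specMap q ≫ (specMap p ≫ sC) = sA := by rw [← Category.assoc, ← specMap_comp, w]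
    have w1 : specMap (toBase B) ≫ (specMap p ≫ sC) = s0 := by
      rw [← eq_toBase (q ≫ toBase A), specMap_comp, Category.assoc, wq, w0]
    rw [quotPull_gp_comp f E p q rfl wq] at h' h''
    have e : FGA.quotPull f E (gp p rfl) K'.1 = FGA.quotPull f E (gp p rfl) K''.1 :=
      hq wq w0 K hK (pullQ f E p rfl K') (pullQ f E p rfl K'') h' h''
    refine hp rfl w1 (pullQ f E p rfl K') ?_ K' K'' rfl e.symm
    show FGA.quotPull f E (gp (toBase B) w1) (FGA.quotPull f E (gp p rfl) K'.1) = K₀.1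
    rw [quotPull_gp_toBase f E q wq w0 w1, h', hK]

end Groth.L14.Quot
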