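import Groth.Agent.L14.Quot.Small
import Groth.Agent.L22.PDual.ExtSheafHom
import Groth.Agent.L22.PDual.Perfect
import Groth.Agent.L16.HomSh.Coherent
import Groth.Agent.L16.HomSh.Adjunction
import Groth.Agent.L16.CohClosedPush
import Groth.Agent.L16.CohKernel
import Groth.Agent.L20.DescLocus.Main
import Groth.Agent.L29.DCoh.TensorPerfect
import Groth.Agent.L00.SheafHom
import Groth.Agent.L20.ResAmple
import Groth.Agent.L16.ProperFinite
import Groth.Agent.L22.PDual.Pairing

/-!
# `Ext¹` of coherent modules on a projective scheme over a field is finite-dimensional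
-/

set_option autoImplicit false
set_option linter.style.haveILetI false
set_option linter.unusedSectionVars false
set_option backward.isDefEq.respectTransparency false
set_option backward.isDefEq.respectTransparency.types false

universe u

open CategoryTheory CategoryTheory.Limits CategoryTheory.Abelian AlgebraicGeometry
open Groth.L16

noncomputable section

namespace Groth.L14.Quot

theorem epi_counit_closed {X Y : Scheme.{u}} (h : X ⟶ Y) [IsClosedImmersion h] (M : X.Modules) :
    Epi ((Scheme.Modules.pullbackPushforwardAdjunction h).counit.app M) :=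
  epi_of_stalk _ fun x c => by
    obtain ⟨q, rfl⟩ := (Groth.L17.ClosedPush.c₀_bijective h M x).2 c
    refine ⟨pm h _ x q, ?_⟩
    refine (c₀_transpose h ((Scheme.Modules.pullbackPushforwardAdjunction h).counit.app M) x q).symm.trans ?_
    refine congrArg (Groth.L17.ClosedPush.c₀ h M x) ?_
    rw [Adjunction.homEquiv_unit, Adjunction.right_triangle_components]
    exact stMapₗ_id _ _ q

theorem isCoh_sub {Y : Scheme.{u}} [IsLocallyNoetherian Y] {M : Y.Modules} (hM : Coh.IsCoh M) (L : Subobject M)
    (hc : Coh.IsCoh (cokernel L.arrow)) : Coh.IsCoh (L : Y.Modules) :=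
  isCoh_of_iso ((IsLimit.conePointUniqueUpToIso (kernelIsKernel _)
      (Abelian.monoIsKernelOfCokernel _ (cokernelIsCokernel L.arrow))))
    (Groth.L16.CohKernel.isCoh_kernel_cokernel hM hc (cokernel.π L.arrow)).1

variable {k : Type u} [Field k] {Z : Scheme.{u}} [Z.Over (Spec (CommRingCat.of k))]
  [IsProper (Z ↘ Spec (CommRingCat.of k))]

theorem finite_HH_sheafHom {M G : Z.Modules} [DCoh.HasSheafHom M] (hM : Coh.IsCoh M) (hG : Coh.IsCoh G) (n : ℕ) :
    Module.Finite k (Coh.HH Z ((DCoh.sheafHom M).obj G) n) := by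
  haveI : IsLocallyNoetherian Z := LocallyOfFiniteType.isLocallyNoetherian (Z ↘ Spec (CommRingCat.of k))
  haveI : Module.Finite k (Coh.HH Z ((Groth.L16.HomSh.homModF M).obj G) n) :=
    Groth.L16.ProperFinite.finite_HH k (M := (Groth.L16.HomSh.homModF M).obj G)
      (Groth.L16.HomSh.isCoh_homMod hM hG) n
  exact Groth.L16.CohLinear.finite_of_iso k ((Groth.L16.HomSh.sheafHomIso (M := M)).app G).symm n

theorem finite_hom {M G : Z.Modules} (hM : Coh.IsCoh M) (hG : Coh.IsCoh G) : Module.Finite k (M ⟶ G) := by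
  haveI := Groth.L00.Tensor.dcoh_hasSheafHom M
  haveI := finite_HH_sheafHom (k := k) hM hG 0
  exact Module.Finite.equiv (Groth.L22.PDual.η (k := k) M G).symm

/-- `Ext¹` between coherent modules on a projective scheme is finite-dimensional. -/
theorem finite_ext_one {n : ℕ} (c : Z ⟶ CohB1.ProjSpace n k) [IsClosedImmersion c] [HasExt.{u} Z.Modules]
    {M G : Z.Modules} (hM : Coh.IsCoh M) (hG : Coh.IsCoh G) : Module.Finite k (Ext M G 1) := by
  haveI : IsLocallyNoetherian Z := LocallyOfFiniteType.isLocallyNoetherian (Z ↘ Spec (CommRingCat.of k))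
  haveI := Groth.L22.PDual.proper n k
  haveI : IsLocallyNoetherian (CohB1.ProjSpace n k) :=
    LocallyOfFiniteType.isLocallyNoetherian (CohB1.ProjSpace n k ↘ Spec (CommRingCat.of k))
  obtain ⟨q, r, p, -, hp⟩ := Groth.L22.PDual.exists_epi_twists (Groth.L16.CohClosedPush.isCoh_push c hM) 0
  let P : Z.Modules := (Scheme.Modules.pullback c).obj (∐ fun _ : Fin r => Groth.L22.Reg.O' n k (-(q : ℤ)))
  have hP : FlatMod.IsFinLocFree P := Groth.L20.DescLocus.isFinLocFree_pullback c
    (Groth.L29.DC.isFinLocFree_coprod_fin r _ fun _ =>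
      Groth.L20.ResDescent.isFinLocFree_of_isInvertible (ProjTwist.isInvertible_twistProjSpace n k _))
  have hPc : Coh.IsCoh P := Groth.L16.AffineBC.isCoh_pullback _ (Groth.L22.PDual.isCoh_sum r _)
  haveI := epi_counit_closed c M
  haveI := epi_pullback_map c p
  let π : P ⟶ M := (Scheme.Modules.pullback c).map p ≫ (Scheme.Modules.pullbackPushforwardAdjunction c).counit.app M
  haveI : Epi π := epi_comp _ _
  let S := ShortComplex.mk (kernel.ι π) π (kernel.condition π)
  have hS : S.ShortExact := { exact := ShortComplex.exact_kernel π }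
  haveI := finite_hom (k := k) (Groth.L16.CohKernel.isCoh_kernel_cokernel hPc hM π).1 hG
  haveI : Module.Finite k (Ext S.X₁ G 0) := Module.Finite.equiv (Ext.linearEquiv₀ (R := k)).symm
  haveI := Groth.L00.Tensor.dcoh_hasSheafHom P
  haveI := finite_HH_sheafHom (k := k) hPc hG 1
  obtain ⟨e⟩ := Groth.L22.PDual.nonempty_ext_linearEquiv (k := k) P hP 1 G
  haveI : Module.Finite k (Ext S.X₂ G 1) := Module.Finite.equiv e.symm
  let δ : Ext S.X₁ G 0 →ₗ[k] Ext S.X₃ G 1 := Ext.bilinearCompOfLinear k S.X₃ S.X₁ G 1 0 1 rfl hS.extClass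
  let ρ : Ext S.X₃ G 1 →ₗ[k] Ext S.X₂ G 1 := Ext.bilinearCompOfLinear k S.X₂ S.X₃ G 0 1 1 (zero_add 1) (Ext.mk₀ π)
  have hex : LinearMap.range δ = LinearMap.ker ρ := by
    ext z
    refine ⟨?_, fun hz => Ext.contravariant_sequence_exact₃ hS G z hz rfl⟩
    rintro ⟨a, rfl⟩
    show (Ext.mk₀ π).comp (hS.extClass.comp a rfl) (zero_add 1) = 0
    exact hS.comp_extClass_assoc a rfl
  refine ⟨Submodule.fg_of_fg_map_of_fg_inf_ker ρ ?_ ?_⟩
  · exact IsNoetherian.noetherian _
  · rw [top_inf_eq, ← hex, LinearMap.range_eq_map]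
    exact Submodule.FG.map δ Module.Finite.fg_top

end Groth.L14.Quot
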