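import Groth.Agent.L14.Quot.Funct

/-!
# The difference of two lifts
-/

set_option autoImplicit false
set_option linter.style.haveILetI false
set_option linter.unusedSectionVars false
set_option backward.isDefEq.respectTransparency false
set_option backward.isDefEq.respectTransparency.types false

universe u

open CategoryTheory CategoryTheory.Limits AlgebraicGeometry TopologicalSpace Opposite

noncomputable section

namespace Groth.L14.Quot

/-- The underlying modules of equal submodules. -/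
def subIso {X : Scheme.{u}} {M : X.Modules} {K L : Subobject M} (h : K = L) :
    (K : X.Modules) ≅ (L : X.Modules) := eqToIso (congrArg (fun P : Subobject M => (P : X.Modules)) h)

/-- The quotients by equal submodules. -/
def cokIso {X : Scheme.{u}} {M : X.Modules} {K L : Subobject M} (h : K = L) :
    cokernel K.arrow ≅ cokernel L.arrow := eqToIso (congrArg (fun P : Subobject M => cokernel P.arrow) h)

theorem subIso_arrow {X : Scheme.{u}} {M : X.Modules} {K L : Subobject M} (h : K = L) :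
    (subIso h).hom ≫ L.arrow = K.arrow := by
  subst h; simp [subIso]

theorem π_cokIso {X : Scheme.{u}} {M : X.Modules} {K L : Subobject M} (h : K = L) :
    cokernel.π K.arrow ≫ (cokIso h).hom = cokernel.π L.arrow := by
  subst h; simp [cokIso]

variable {X S : Scheme.{u}} (f : X ⟶ S) (E : X.Modules)
  {B A C : CommRingCat.{u}} {p : B ⟶ A} {q : A ⟶ C} {t : B}
  {sB : Spec B ⟶ S} {sA : Spec A ⟶ S} {sC : Spec C ⟶ S} (wA : Spec.map p ≫ sB = sA) (wC : Spec.map q ≫ sA = sC)
  (H : SExt p q t)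
  (hE : FlatMod.IsFlatOver (PicF.XTproj f (Over.mk sB)) (FGA.ET f E (Over.mk sB)))
  (K : FGA.QuotSet f E (Over.mk sA))

/-- The lifts of a quotient. -/
def Lifts : Type (u + 1) :=
  {L : Subobject (FGA.ET f E (Over.mk sB)) // FlatMod.IsFlatOver (PicF.XTproj f (Over.mk sB)) (cokernel L.arrow) ∧
    FGA.quotPull f E (gA wA) L = K.1}

/-- The retraction of a lift. -/
def retr (L : Lifts f E wA K) : jK f E wA wC K ⟶ cokernel (Kc f E wA wC K).arrow :=
  (exists_retraction f E wA wC H hE K L.1 L.2.1 L.2.2).choose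

theorem alpha_retr (L : Lifts f E wA K) : alpha f E wA wC H hE K ≫ retr f E wA wC H hE K L = 𝟙 _ :=
  (exists_retraction f E wA wC H hE K L.1 L.2.1 L.2.2).choose_spec.1

theorem liftSub_retr (L : Lifts f E wA K) : liftSub f E wA wC K (retr f E wA wC H hE K L) = L.1 :=
  (exists_retraction f E wA wC H hE K L.1 L.2.1 L.2.2).choose_spec.2

include H hE in
theorem le_Kt (L : Lifts f E wA K) : L.1 ≤ Kt f E wA K := by
  rw [← liftSub_retr f E wA (sC := Spec.map q ≫ sA) rfl H hE K L]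
  exact liftSub_le f E wA rfl K _

theorem map_ofLE_retr (L : Lifts f E wA K) :
    (Scheme.Modules.pullback (PicF.XTmap f (gC wA wC))).map (Subobject.ofLE L.1 _ (le_Kt f E wA H hE K L)) ≫
      retr f E wA wC H hE K L = 0 := by
  refine eq_zero_of_stalk _ fun w u => ?_
  haveI := closedImmersion_gC f H wA wC
  obtain ⟨l, rfl⟩ := pm_surjective (PicF.XTmap f (gC wA wC)) _ w u
  rw [stMapₗ_comp_apply, pm_natural]
  have hl : stMapₗ (Kt f E wA K).arrow _ (stMapₗ (Subobject.ofLE L.1 _ (le_Kt f E wA H hE K L)) _ l) ∈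
      stR (liftSub f E wA wC K (retr f E wA wC H hE K L)) _ := by
    rw [liftSub_retr, ← stMapₗ_comp_apply, Subobject.ofLE_arrow]
    exact ⟨l, rfl⟩
  obtain ⟨v, e, hv⟩ := (mem_liftSub_iff f E wA wC H K _ w _).1 hl
  rwa [← stMapₗ_injective _ _ e]

/-- A map vanishing on the image of the quotient and on a lift is zero. -/
theorem eq_zero_of_vanish (L : Lifts f E wA K) {Z : (PicF.XT f (Over.mk sC)).Modules}
    (s : jK f E wA wC K ⟶ Z) (h1 : alpha f E wA wC H hE K ≫ s = 0)
    (h2 : (Scheme.Modules.pullback (PicF.XTmap f (gC wA wC))).map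
      (Subobject.ofLE L.1 _ (le_Kt f E wA H hE K L)) ≫ s = 0) : s = 0 := by
  refine eq_zero_of_stalk _ fun w u => ?_
  obtain ⟨v, rfl⟩ := pK_surjective f E wA wC H K w u
  obtain ⟨x, hx⟩ := (liftSub_facts f E wA wC H hE K (alpha_retr f E wA wC H hE K L) _).1 _
    (⟨v, rfl⟩ : stMapₗ (Kt f E wA K).arrow _ v ∈ stR (Kt f E wA K) _)
  rw [liftSub_retr] at hx
  obtain ⟨l, hl⟩ := hx
  have e : v = stMapₗ (tau f E wA H hE K) _ x + stMapₗ (Subobject.ofLE L.1 _ (le_Kt f E wA H hE K L)) _ l := by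
    refine stMapₗ_injective (Kt f E wA K).arrow _ ?_
    rw [map_add, arrow_tau, ← stMapₗ_comp_apply _ (Kt f E wA K).arrow, Subobject.ofLE_arrow, hl]
    abel
  rw [e, map_add, map_add, ← alpha_mk f E wA wC H hE K w x, ← pm_natural, ← stMapₗ_comp_apply, h1]
  refine (congrArg₂ (· + ·) ?_ ?_).trans (zero_add 0)
  · simp [stMapₗ]
  · exact (stMapₗ_comp_apply _ s w _).symm.trans (by rw [h2]; simp [stMapₗ])

/-- Maps agreeing on the image of the quotient and on a lift are equal. -/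
theorem eq_of_vanish (L : Lifts f E wA K) {Z : (PicF.XT f (Over.mk sC)).Modules}
    (s s' : jK f E wA wC K ⟶ Z) (h1 : alpha f E wA wC H hE K ≫ s = alpha f E wA wC H hE K ≫ s')
    (h2 : (Scheme.Modules.pullback (PicF.XTmap f (gC wA wC))).map
      (Subobject.ofLE L.1 _ (le_Kt f E wA H hE K L)) ≫ s = 0)
    (h3 : (Scheme.Modules.pullback (PicF.XTmap f (gC wA wC))).map
      (Subobject.ofLE L.1 _ (le_Kt f E wA H hE K L)) ≫ s' = 0) : s = s' := by
  rw [← sub_eq_zero]
  exact eq_zero_of_vanish f E wA wC H hE K L _ (by rw [Preadditive.comp_sub, h1, sub_self])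
    (by rw [Preadditive.comp_sub, h2, h3, sub_self])

theorem comp_zero_of {D : Type*} [Category D] [Preadditive D] {P Q R R' Z : D} {a : P ⟶ Q} {m : Q ⟶ R} {r : R ⟶ R'}
    (h : a ≫ m ≫ r = 0) (e : R' ⟶ Z) : a ≫ m ≫ r ≫ e = 0 := by
  rw [reassoc_of% h, zero_comp]

theorem comp_zero_of' {D : Type*} [Category D] [Preadditive D] {P Q R Z : D} {a : P ⟶ Q} {n : Q ⟶ R}
    (h : a ≫ n = 0) (e : R ⟶ Z) : a ≫ n ≫ e = 0 := by
  rw [reassoc_of% h, zero_comp]

variable {K₀ : Subobject (FGA.ET f E (Over.mk sC))} (hKc : Kc f E wA wC K = K₀)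

/-- The surjection onto the given kernel on the closed fibre. -/
def bMap₀ : jK f E wA wC K ⟶ (K₀ : (PicF.XT f (Over.mk sC)).Modules) :=
  bMap f E wA wC K ≫ (subIso hKc).hom

instance : Epi (bMap₀ f E wA wC K hKc) := by unfold bMap₀; exact epi_comp _ _

theorem exists_dif (L L' : Lifts f E wA K) :
    ∃ d : (K₀ : (PicF.XT f (Over.mk sC)).Modules) ⟶ cokernel K₀.arrow,
      bMap₀ f E wA wC K hKc ≫ d =
        (retr f E wA wC H hE K L - retr f E wA wC H hE K L') ≫ (cokIso hKc).hom := by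
  obtain ⟨d, hd⟩ := CokernelCofork.IsColimit.desc' (shortExact_liftSeq f E wA wC H hE K).gIsCokernel
    (retr f E wA wC H hE K L - retr f E wA wC H hE K L')
    (by rw [Preadditive.comp_sub, alpha_retr, alpha_retr, sub_self])
  refine ⟨(subIso hKc).inv ≫ d ≫ (cokIso hKc).hom, ?_⟩
  rw [bMap₀, Category.assoc, Iso.hom_inv_id_assoc, ← Category.assoc]
  exact congrArg (· ≫ (cokIso hKc).hom) hd

/-- The difference of two lifts. -/
def dif (L L' : Lifts f E wA K) : (K₀ : (PicF.XT f (Over.mk sC)).Modules) ⟶ cokernel K₀.arrow :=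
  (exists_dif f E wA wC H hE K hKc L L').choose

theorem bMap_dif (L L' : Lifts f E wA K) :
    bMap₀ f E wA wC K hKc ≫ dif f E wA wC H hE K hKc L L' =
      (retr f E wA wC H hE K L - retr f E wA wC H hE K L') ≫ (cokIso hKc).hom :=
  (exists_dif f E wA wC H hE K hKc L L').choose_spec

theorem dif_self (L : Lifts f E wA K) : dif f E wA wC H hE K hKc L L = 0 :=
  (cancel_epi (bMap₀ f E wA wC K hKc)).1 (by rw [bMap_dif, sub_self, zero_comp, comp_zero])

theorem dif_trans (L L' L'' : Lifts f E wA K) :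
    dif f E wA wC H hE K hKc L L'' = dif f E wA wC H hE K hKc L L' + dif f E wA wC H hE K hKc L' L'' :=
  (cancel_epi (bMap₀ f E wA wC K hKc)).1 (by
    rw [Preadditive.comp_add, bMap_dif, bMap_dif, bMap_dif, ← Preadditive.add_comp, sub_add_sub_cancel])

theorem dif_injective (L' : Lifts f E wA K) :
    Function.Injective fun L => dif f E wA wC H hE K hKc L L' := fun L₁ L₂ h => by
  have e := congrArg (fun d => bMap₀ f E wA wC K hKc ≫ d) h
  simp only [bMap_dif, cancel_mono, sub_left_inj] at e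
  exact Subtype.ext (by rw [← liftSub_retr f E wA wC H hE K L₁, ← liftSub_retr f E wA wC H hE K L₂, e])

theorem dif_surjective (L' : Lifts f E wA K) (d : (K₀ : (PicF.XT f (Over.mk sC)).Modules) ⟶ cokernel K₀.arrow) :
    ∃ L, dif f E wA wC H hE K hKc L L' = d := by
  let r := retr f E wA wC H hE K L' + bMap₀ f E wA wC K hKc ≫ d ≫ (cokIso hKc).inv
  have hr : alpha f E wA wC H hE K ≫ r = 𝟙 _ := by
    rw [Preadditive.comp_add, alpha_retr, bMap₀, Category.assoc, ← Category.assoc (alpha f E wA wC H hE K),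
      alpha_bMap, zero_comp, add_zero]
  let L : Lifts f E wA K := ⟨liftSub f E wA wC K r, isFlatOver_liftSub f E wA wC H hE K hr,
    quotPull_liftSub f E wA wC H hE K hr⟩
  refine ⟨L, (cancel_epi (bMap₀ f E wA wC K hKc)).1 ?_⟩
  have e : retr f E wA wC H hE K L = r :=
    retraction_unique f E wA wC H hE K (alpha_retr f E wA wC H hE K L) hr (liftSub_retr f E wA wC H hE K L)
  rw [bMap_dif, e, add_sub_cancel_left]
  simp

section Funct

variable {B' A' : CommRingCat.{u}} {p' : B' ⟶ A'} {q' : A' ⟶ C} {t' : B'}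
  {sB' : Spec B' ⟶ S} {sA' : Spec A' ⟶ S} (wA' : Spec.map p' ≫ sB' = sA') (wC' : Spec.map q' ≫ sA' = sC)
  (M : Mor p q p' q' sB sA sB' sA') (H' : SExt p' q' t')
  (hE' : FlatMod.IsFlatOver (PicF.XTproj f (Over.mk sB')) (FGA.ET f E (Over.mk sB')))
  (K' : FGA.QuotSet f E (Over.mk sA')) (hK' : FGA.quotPull f E M.gη K.1 = K'.1)
  (hKc' : Kc f E wA' wC' K' = K₀) (c : B') (hc : M.θ t = c * t')

theorem Mor.mu_bMap : M.mu f E wA wC wA' wC' H H' K K' hK' ≫ bMap₀ f E wA' wC' K' hKc' =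
    bMap₀ f E wA wC K hKc := by
  refine (cancel_mono K₀.arrow).1 ?_
  rw [bMap₀, bMap₀, Category.assoc, Category.assoc, Category.assoc, subIso_arrow, subIso_arrow, bMap_arrow,
    bMap_arrow, Mor.mu_iota]

include hc in
theorem Mor.alpha_mu_retr (L : Lifts f E wA K) (L' : Lifts f E wA' K') :
    alpha f E wA wC H hE K ≫ M.mu f E wA wC wA' wC' H H' K K' hK' ≫ retr f E wA' wC' H' hE' K' L' ≫
        (cokIso hKc').hom =
      (cokIso hKc).hom ≫ smulMod _ (tg f ((p' ≫ q') c) sC) := by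
  have h1 := Mor.aMap_mu f E wA wC wA' wC' M H H' K K' hK' hE hE' c hc
  have h2 : cokernel.π (Kc f E wA wC K).arrow ≫ alpha f E wA wC H hE K = aMap f E wA wC H hE K :=
    cokernel.π_desc _ _ _
  have h3 : cokernel.π (Kc f E wA' wC' K').arrow ≫ alpha f E wA' wC' H' hE' K' = aMap f E wA' wC' H' hE' K' :=
    cokernel.π_desc _ _ _
  refine coequalizer.hom_ext ?_
  calc cokernel.π (Kc f E wA wC K).arrow ≫ alpha f E wA wC H hE K ≫ M.mu f E wA wC wA' wC' H H' K K' hK' ≫
        retr f E wA' wC' H' hE' K' L' ≫ (cokIso hKc').hom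
      = (aMap f E wA wC H hE K ≫ M.mu f E wA wC wA' wC' H H' K K' hK') ≫
          retr f E wA' wC' H' hE' K' L' ≫ (cokIso hKc').hom := by rw [reassoc_of% h2, Category.assoc]
    _ = smulMod _ (tg f ((p' ≫ q') c) sC) ≫ cokernel.π (Kc f E wA' wC' K').arrow ≫ alpha f E wA' wC' H' hE' K' ≫
          retr f E wA' wC' H' hE' K' L' ≫ (cokIso hKc').hom := by rw [h1, Category.assoc, ← h3, Category.assoc]
    _ = smulMod _ (tg f ((p' ≫ q') c) sC) ≫ cokernel.π K₀.arrow := by
          rw [reassoc_of% (alpha_retr f E wA' wC' H' hE' K' L'), π_cokIso]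
    _ = cokernel.π (Kc f E wA wC K).arrow ≫ (cokIso hKc).hom ≫ smulMod _ (tg f ((p' ≫ q') c) sC) := by
          rw [← comp_smulMod, reassoc_of% (π_cokIso hKc)]

theorem Mor.ofLE_phi (L : Lifts f E wA K) (L' : Lifts f E wA' K')
    (hL : L'.1 = FGA.quotPull f E M.gθ L.1) :
    (Scheme.Modules.pullback (PicF.XTmap f M.gθ)).map (Subobject.ofLE L.1 _ (le_Kt f E wA H hE K L)) ≫
        M.phi f E wA wA' H H' K K' hK' =
      (factorThruImageSubobject ((Scheme.Modules.pullback (PicF.XTmap f M.gθ)).map L.1.arrow ≫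
          (FGA.ETiso f E M.gθ).hom) ≫ Subobject.ofLE _ L'.1 hL.ge) ≫
        Subobject.ofLE L'.1 _ (le_Kt f E wA' H' hE' K' L') := by
  refine (cancel_mono (Kt f E wA' K').arrow).1 ?_
  simp only [Category.assoc, Subobject.ofLE_arrow, Mor.phi_arrow]
  rw [← Functor.map_comp_assoc, Subobject.ofLE_arrow]
  exact (imageSubobject_arrow_comp _).symm

theorem Mor.ofLE_mu_retr (L : Lifts f E wA K) (L' : Lifts f E wA' K')
    (hL : L'.1 = FGA.quotPull f E M.gθ L.1) :
    (Scheme.Modules.pullback (PicF.XTmap f (gC wA wC))).map (Subobject.ofLE L.1 _ (le_Kt f E wA H hE K L)) ≫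
      M.mu f E wA wC wA' wC' H H' K K' hK' ≫ retr f E wA' wC' H' hE' K' L' = 0 := by
  have h2 := (transit f (gC wA' wC') M.gθ (gC wA wC) (Mor.gC_comm wA wC wA' wC' M)).inv.naturality
    (Subobject.ofLE L.1 _ (le_Kt f E wA H hE K L))
  rw [Mor.mu, Category.assoc, ← Category.assoc, h2, Category.assoc,
    Functor.comp_map, ← Functor.map_comp_assoc, Mor.ofLE_phi f E wA H hE K wA' M H' hE' K' hK' L L' hL,
    Functor.map_comp_assoc, map_ofLE_retr f E wA' wC' H' hE' K' L', comp_zero, comp_zero]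

include hc in
theorem Mor.mu_retr (L : Lifts f E wA K) (L' : Lifts f E wA' K')
    (hL : L'.1 = FGA.quotPull f E M.gθ L.1) :
    M.mu f E wA wC wA' wC' H H' K K' hK' ≫ retr f E wA' wC' H' hE' K' L' ≫ (cokIso hKc').hom =
      retr f E wA wC H hE K L ≫ (cokIso hKc).hom ≫ smulMod _ (tg f ((p' ≫ q') c) sC) := by
  refine eq_of_vanish f E wA wC H hE K L _ _ ?_ ?_ ?_
  · rw [Mor.alpha_mu_retr f E wA wC H hE K hKc wA' wC' M H' hE' K' hK' hKc' c hc L L',
      reassoc_of% (alpha_retr f E wA wC H hE K L)]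
  · exact comp_zero_of (Mor.ofLE_mu_retr f E wA wC H hE K wA' wC' M H' hE' K' hK' L L' hL) _
  · exact comp_zero_of' (map_ofLE_retr f E wA wC H hE K L) _

include hc in
/-- Differences are natural in the extension. -/
theorem Mor.dif_eq (L₁ L₂ : Lifts f E wA K) (L₁' L₂' : Lifts f E wA' K')
    (h₁ : L₁'.1 = FGA.quotPull f E M.gθ L₁.1) (h₂ : L₂'.1 = FGA.quotPull f E M.gθ L₂.1)
    (hK' : FGA.quotPull f E M.gη K.1 = K'.1) :
    dif f E wA' wC' H' hE' K' hKc' L₁' L₂' =
      dif f E wA wC H hE K hKc L₁ L₂ ≫ smulMod _ (tg f ((p' ≫ q') c) sC) := by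
  refine (cancel_epi (bMap₀ f E wA wC K hKc)).1 ?_
  rw [reassoc_of% (bMap_dif f E wA wC H hE K hKc L₁ L₂), ← Mor.mu_bMap f E wA wC H K hKc wA' wC' M H' K' hK' hKc',
    Category.assoc, bMap_dif, Preadditive.sub_comp, Preadditive.sub_comp, Preadditive.comp_sub,
    Mor.mu_retr f E wA wC H hE K hKc wA' wC' M H' hE' K' hK' hKc' c hc L₁ L₁' h₁,
    Mor.mu_retr f E wA wC H hE K hKc wA' wC' M H' hE' K' hK' hKc' c hc L₂ L₂' h₂]

end Funct

end Groth.L14.Quot
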