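import Groth.Agent.L14.Quot.BaseChange
import Groth.Agent.S11305
import Groth.Agent.L16.ProjSpace.BaseChange
import Groth.Agent.L16.ProjSpace.Basic

/-!
# Representing objects of Quot functors are locally of finite type
-/

set_option autoImplicit false
set_option linter.style.haveILetI false
set_option linter.unusedSectionVars false
set_option backward.isDefEq.respectTransparency false
set_option backward.isDefEq.respectTransparency.types false

universe u

open CategoryTheory CategoryTheory.Limits AlgebraicGeometry TopologicalSpace Opposite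

noncomputable section

namespace Groth.L14.Quot

theorem quotPull_id' {X S : Scheme.{u}} (f : X ⟶ S) (E : X.Modules) (T : Over S) (K : Subobject (FGA.ET f E T)) :
    FGA.quotPull f E (𝟙 T) K = K := by
  have h : PicF.XTmap f (𝟙 T) = 𝟙 _ := by apply pullback.hom_ext <;> simp [PicF.XTmap]
  rw [quotPull_eq]
  refine Eq.trans ?_ ((mdl f E T).pullS_id K)
  congr 1

theorem nonempty_iso_of_represented {X S : Scheme.{u}} (f : X ⟶ S) (E : X.Modules) {Q₁ Q₂ : Over S}
    {K₁ : FGA.QuotSet f E Q₁} {K₂ : FGA.QuotSet f E Q₂} (h₁ : FGA.QuotRepresentedBy f E Q₁ K₁)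
    (h₂ : FGA.QuotRepresentedBy f E Q₂ K₂) : Nonempty (Q₁ ≅ Q₂) := by
  haveI := h₁.1
  haveI := h₂.1
  obtain ⟨a, ha, -⟩ := h₂.2 Q₁ K₁
  obtain ⟨b, hb, -⟩ := h₁.2 Q₂ K₂
  obtain ⟨i₁, -, hu₁⟩ := h₁.2 Q₁ K₁
  obtain ⟨i₂, -, hu₂⟩ := h₂.2 Q₂ K₂
  exact ⟨⟨a, b,
    (hu₁ _ ((quotPull_comp f E a b K₁.1).trans ((congrArg _ hb).trans ha))).trans (hu₁ _ (quotPull_id' f E _ _)).symm,
    (hu₂ _ ((quotPull_comp f E b a K₂.1).trans ((congrArg _ ha).trans hb))).trans (hu₂ _ (quotPull_id' f E _ _)).symm⟩⟩

/-- A scheme representing the Quot functor of a projective morphism is locally of finite type. -/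
theorem locallyOfFiniteType_of_represented {k : Type u} [Field k] [IsAlgClosed k] (S : Scheme.{u})
    (σ : S ⟶ Spec (CommRingCat.of k)) [LocallyOfFiniteType σ] (X : Scheme.{u}) (x : X ⟶ S) {n : ℕ}
    (c : X ⟶ CohB1.ProjSpaceOver n S) [IsClosedImmersion c] (hcx : c ≫ CohB1.ProjSpaceOver.toBase n S = x)
    (H : X.Modules) (hH : Coh.IsCoh H) (Q : Over S) (Ku : FGA.QuotSet x H Q) (hQ : FGA.QuotRepresentedBy x H Q Ku) :
    LocallyOfFiniteType Q.hom := by
  refine IsZariskiLocalAtTarget.of_iSup_eq_top (fun V : S.affineOpens => (V : S.Opens)) (iSup_affineOpens_eq_top S)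
    fun V => ?_
  let j : (V : S.Opens).toScheme ⟶ S := (V : S.Opens).ι
  haveI : IsAffine (V : S.Opens).toScheme := V.2
  let pX := pullback.fst x j
  let f' := pullback.snd x j
  have hm : IsPullback (Groth.L16.ProjSpace.overMap n j) (CohB1.ProjSpaceOver.toBase n (V : S.Opens).toScheme)
      (CohB1.ProjSpaceOver.toBase n S) j := Groth.L16.ProjSpace.isPullback_overMap n j
  let i : pullback x j ⟶ CohB1.ProjSpaceOver n (V : S.Opens).toScheme :=
    hm.lift (pX ≫ c) f' (by rw [Category.assoc, hcx]; exact pullback.condition)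
  have hi : i ≫ CohB1.ProjSpaceOver.toBase n (V : S.Opens).toScheme = f' := hm.lift_snd _ _ _
  haveI : IsClosedImmersion i := by
    have sq : IsPullback pX (i ≫ CohB1.ProjSpaceOver.toBase n (V : S.Opens).toScheme)
        (c ≫ CohB1.ProjSpaceOver.toBase n S) j := by rw [hi, hcx]; exact IsPullback.of_hasPullback x j
    exact MorphismProperty.of_isPullback (IsPullback.of_bot sq (hm.lift_fst _ _ _).symm hm) inferInstance
  haveI : LocallyOfFiniteType (j ≫ σ) := inferInstance
  let E' := (Scheme.Modules.pullback pX).obj H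
  obtain ⟨Q', K', hQ', ι, P, e, m, cc, hcc⟩ :=
    Groth.Agent.S11305.result k (V : S.Opens).toScheme (j ≫ σ) n (pullback x j) i E'
      (Groth.L16.AffineBC.isCoh_pullback _ hH)
  haveI : LocallyOfFiniteType Q'.hom := by
    have h1 : ∀ a, LocallyOfFiniteType (Limits.Sigma.ι P a ≫ e.hom ≫ Q'.hom) := fun a => by
      haveI := (hcc a).1
      rw [← (hcc a).2]
      infer_instance
    have h2 : LocallyOfFiniteType (e.hom ≫ Q'.hom) := by
      rw [show e.hom ≫ Q'.hom = Limits.Sigma.desc fun a => Limits.Sigma.ι P a ≫ e.hom ≫ Q'.hom from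
        Limits.Sigma.hom_ext _ _ fun a => by rw [Sigma.ι_desc]]
      exact IsZariskiLocalAtSource.sigmaDesc h1
    have := (MorphismProperty.cancel_left_of_respectsIso @LocallyOfFiniteType e.hom Q'.hom).1 h2
    exact this
  haveI : IsLocallyNoetherian (pullback Q.hom j) := by
    haveI := hQ.1
    exact isLocallyNoetherian_of_isOpenImmersion (pullback.fst Q.hom j)
  have sqX : IsPullback pX (i ≫ CohB1.ProjSpaceOver.toBase n (V : S.Opens).toScheme) x j := by
    rw [hi]; exact IsPullback.of_hasPullback x j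
  obtain ⟨w⟩ := nonempty_iso_of_represented (i ≫ CohB1.ProjSpaceOver.toBase n (V : S.Opens).toScheme) E'
    (quotRepresentedBy_change x H (i ≫ CohB1.ProjSpaceOver.toBase n (V : S.Opens).toScheme) E' pX j sqX (Iso.refl _)
      Ku hQ) hQ'
  have hw : LocallyOfFiniteType (pullback.snd Q.hom j) := by
    rw [← show w.hom.left ≫ Q'.hom = pullback.snd Q.hom j from Over.w w.hom]
    haveI : IsIso w.hom.left := ((Over.forget _).mapIso w).isIso_hom
    infer_instance
  show LocallyOfFiniteType ((pullbackRestrictIsoRestrict Q.hom (V : S.Opens)).inv ≫ pullback.snd Q.hom j)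
  infer_instance

end Groth.L14.Quot
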