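import Groth.Agent.L14.Quot.Tangent
import Groth.Agent.L14.LocHilb.Lift.Hilb

/-!
# Infinitesimal points of a scheme representing the Quot functor
-/

set_option autoImplicit false
set_option linter.style.haveILetI false
set_option linter.unusedSectionVars false
set_option backward.isDefEq.respectTransparency false
set_option backward.isDefEq.respectTransparency.types false

universe u

open CategoryTheory CategoryTheory.Limits AlgebraicGeometry TopologicalSpace Opposite ArtFun ArtFun.Art IsLocalRing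

noncomputable section

namespace Groth.L14.Quot

open Groth.L14.LocHilb (St stAlg stRes stMap StHom stRes_algebraMap exists_completion' ptOfDual ptOfDual_bijective
  ptOfPair ptOfPair_pr₁ ptOfPair_pr₂ ptOfPair_plus ptOfDual_scale finrank_cotangent_eq)

variable {k : Type u} [Field k] {X : Scheme.{u}} (x : X ⟶ Spec (CommRingCat.of k)) (H : X.Modules)
  {Q : Over (Spec (CommRingCat.of k))} (Ku : FGA.QuotSet x H Q) (hQ : FGA.QuotRepresentedBy x H Q Ku)
  (K₀ : FGA.QuotSet x H (Over.mk (𝟙 (Spec (CommRingCat.of k))))) (g : Over.mk (𝟙 (Spec (CommRingCat.of k))) ⟶ Q)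
  (hg : FGA.quotPull x H g Ku.1 = K₀.1)

/-- The base point of test schemes. -/
abbrev s0 (k : Type u) [Field k] : spec (base k k) ⟶ Spec (CommRingCat.of k) := 𝟙 _

/-- The map to `Q` of a point of the stalk. -/
def ptHom {A : Art k k} (φ : StHom Q.hom g.left A) : Over.mk (cst (s0 k) A) ⟶ Q :=
  Over.homMk φ.pt (φ.pt_π.trans (Category.comp_id _).symm)

theorem gp_toBase_ptHom {A : Art k k} (φ : StHom Q.hom g.left A) :
    gp (toBase A) (w0 (s0 k) A) ≫ ptHom g φ = g :=
  Over.OverMorphism.ext φ.specRes_pt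

/-- The deformation of a point of the stalk. -/
def ofPt {A : Art k k} (φ : StHom Q.hom g.left A) : Def0 x H (s0 k) K₀ A :=
  ⟨⟨FGA.quotPull x H (ptHom g φ) Ku.1, quotPull_mem x H (ptHom g φ) Ku⟩, by
    show FGA.quotPull x H (gp (toBase A) (w0 (s0 k) A)) (FGA.quotPull x H (ptHom g φ) Ku.1) = K₀.1
    rw [← quotPull_comp, gp_toBase_ptHom, hg]⟩

theorem ofPt_map {A B : Art k k} (μ : A ⟶ B) (φ : StHom Q.hom g.left A) :
    ofPt x H Ku K₀ g hg (φ.map μ) = (ofPt x H Ku K₀ g hg φ).map x H (s0 k) K₀ μ := by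
  refine Subtype.ext (Subtype.ext ?_)
  show FGA.quotPull x H (ptHom g (φ.map μ)) Ku.1 =
    FGA.quotPull x H (gp μ (wP (s0 k) μ)) (FGA.quotPull x H (ptHom g φ) Ku.1)
  rw [← quotPull_comp]
  exact congrArg (fun e => FGA.quotPull x H e Ku.1) (Over.OverMorphism.ext (φ.pt_map μ))

include hQ in
theorem ofPt_bijective (A : Art k k) : Function.Bijective (ofPt x H Ku K₀ g hg (A := A)) := by
  haveI : IsLocallyNoetherian (Over.mk (cst (s0 k) A)).left :=
    inferInstanceAs (IsLocallyNoetherian (Spec (CommRingCat.of A)))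
  haveI : IsLocallyNoetherian (Over.mk (𝟙 (Spec (CommRingCat.of k)))).left :=
    inferInstanceAs (IsLocallyNoetherian (Spec (CommRingCat.of k)))
  refine ⟨fun φ ψ h => StHom.pt_injective ?_, fun L => ?_⟩
  · obtain ⟨e, -, hu⟩ := hQ.2 (Over.mk (cst (s0 k) A)) (ofPt x H Ku K₀ g hg φ).1
    exact congrArg CommaMorphism.left ((hu (ptHom g φ) rfl).trans
      (hu (ptHom g ψ) (congrArg (fun K => (K : Def0 x H (s0 k) K₀ A).1.1) h).symm).symm)
  · obtain ⟨e, he, -⟩ := hQ.2 (Over.mk (cst (s0 k) A)) L.1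
    obtain ⟨g₀, -, hu⟩ := hQ.2 (Over.mk (𝟙 (Spec (CommRingCat.of k)))) K₀
    have e0 : gp (toBase A) (w0 (s0 k) A) ≫ e = g :=
      (hu _ ((quotPull_comp x H _ e Ku.1).trans ((congrArg _ he).trans L.2))).trans (hu g hg).symm
    obtain ⟨φ, hφ⟩ := StHom.exists_pt (π := Q.hom) (σ := g.left) e.left ((Over.w e).trans (Category.comp_id _))
      (congrArg CommaMorphism.left e0)
    refine ⟨φ, Subtype.ext (Subtype.ext ?_)⟩
    show FGA.quotPull x H (ptHom g φ) Ku.1 = L.1.1
    rw [show ptHom g φ = e from Over.OverMorphism.ext hφ, he]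

variable (hH : Coh.IsCoh H)

include hQ hg hH in
/-- Points of the stalk lift along surjections when `Ext¹(K₀, Q₀) = 0`. -/
theorem exists_map_eq [HasExt.{u} (PicF.XT x (Over.mk (𝟙 (Spec (CommRingCat.of k))))).Modules]
    (hExt : Subsingleton (Abelian.Ext.{u} (Subobject.underlying.obj K₀.1) (cokernel K₀.1.arrow) 1))
    {B A : Art k k} (p : B ⟶ A) (hp : Function.Surjective p) (φ : StHom Q.hom g.left A) :
    ∃ ψ : StHom Q.hom g.left B, ψ.map p = φ := by
  obtain ⟨K', hK'⟩ := exists_lift_of_ext x H (isFlatOver_field x H) K₀ hH hExt p hp (wP (s0 k) p) (w0 (s0 k) A)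
    (ofPt x H Ku K₀ g hg φ).1 (ofPt x H Ku K₀ g hg φ).2
  let L : Def0 x H (s0 k) K₀ B := ⟨K', by
    rw [quotPull_gp_toBase x H p (wP (s0 k) p) (w0 (s0 k) A) (w0 (s0 k) B), hK']
    exact (ofPt x H Ku K₀ g hg φ).2⟩
  obtain ⟨ψ, hψ⟩ := (ofPt_bijective x H Ku hQ K₀ g hg B).2 L
  refine ⟨ψ, (ofPt_bijective x H Ku hQ K₀ g hg A).1 ?_⟩
  rw [ofPt_map, hψ]
  exact Subtype.ext (Subtype.ext hK')

include hQ hg hH in
/-- The local ring at a point with `Ext¹(K₀, Q₀) = 0` is regular. -/
theorem isRegular_stalk [HasExt.{u} (PicF.XT x (Over.mk (𝟙 (Spec (CommRingCat.of k))))).Modules]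
    (hExt : Subsingleton (Abelian.Ext.{u} (Subobject.underlying.obj K₀.1) (cokernel K₀.1.arrow) 1)) :
    IsRegularLocalRing (Q.left.presheaf.stalk (g.left.base (closedPoint k))) := by
  haveI : IsLocallyNoetherian Q.left := hQ.1
  let σ : Spec (CommRingCat.of k) ⟶ Q.left := g.left
  have hσ : σ ≫ Q.hom = 𝟙 _ := Over.w g
  letI : Algebra k (St σ) := stAlg Q.hom σ
  let r : St σ →ₐ[k] k :=
    { (stRes σ).hom with
      commutes' := fun c => stRes_algebraMap Q.hom σ hσ rfl c }
  haveI : IsNoetherianRing (St σ) :=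
    inferInstanceAs (IsNoetherianRing (Q.left.presheaf.stalk (σ (IsLocalRing.closedPoint k))))
  obtain ⟨R, j, hj, ⟨hreg, -, -⟩, hb⟩ := exists_completion' r
  let toSt : ∀ A : Art k k, HomSet R.carrier R.res A → StHom Q.hom σ A := fun A φ =>
    { hom := CommRingCat.ofHom (φ.1.comp j).toRingHom
      comm := CommRingCat.hom_ext (RingHom.ext fun c => (φ.1.comp j).commutes c)
      res := CommRingCat.hom_ext (RingHom.ext fun s =>
        (AlgHom.congr_fun φ.2 (j s)).trans (AlgHom.congr_fun hj s)) }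
  have hs : IsSmoothFunctor (hR R.carrier R.res) := fun B A μ hμ φ => by
    obtain ⟨ψ, hψ⟩ := exists_map_eq x H Ku hQ K₀ g hg hH hExt μ hμ (toSt A φ)
    let e : HomSet (St σ) (R.res.comp j) B :=
      ⟨{ ψ.hom.hom with commutes' := fun c => ConcreteCategory.congr_hom ψ.comm c },
        hj.symm ▸ AlgHom.ext fun s => ConcreteCategory.congr_hom ψ.res s⟩
    obtain ⟨φ', hφ'⟩ := (hb B).2 e
    refine ⟨φ', (hb A).1 (Subtype.ext (AlgHom.ext fun s => ?_))⟩
    have h1 : φ'.1 (j s) = ψ.hom s := AlgHom.congr_fun (congrArg Subtype.val hφ') s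
    show μ.toAlgHom (φ'.1 (j s)) = φ.1 (j s)
    rw [h1]
    exact congrArg (fun θ : StHom Q.hom σ A => θ.hom s) hψ
  exact hreg.1 (Groth.L14.LocHilbLift.isRegular_of_smooth
    ⟨R, ⟨fun A φ => φ, fun _ _ => rfl⟩, fun A => Function.bijective_id⟩ hs)

include hQ hg hH in
/-- The cotangent space at a point has the dimension of `Hom(K₀, Q₀)`. -/
theorem finrank_cotangent :
    Module.finrank (ResidueField (Q.left.presheaf.stalk (g.left.base (closedPoint k))))
        (CotangentSpace (Q.left.presheaf.stalk (g.left.base (closedPoint k)))) =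
      (letI : (PicF.XT x (Over.mk (𝟙 (Spec (CommRingCat.of k))))).Over (Spec (CommRingCat.of k)) :=
        ⟨PicF.XTproj x (Over.mk (𝟙 (Spec (CommRingCat.of k))))⟩
      Module.finrank k (Subobject.underlying.obj K₀.1 ⟶ cokernel K₀.1.arrow)) := by
  let σ : Spec (CommRingCat.of k) ⟶ Q.left := g.left
  have hσ : σ ≫ Q.hom = 𝟙 _ := Over.w g
  letI : Algebra k (St σ) := stAlg Q.hom σ
  have halg : algebraMap k (St σ) = (stMap Q.hom σ).hom := rfl
  letI : (PicF.XT x (Over.mk (𝟙 (Spec (CommRingCat.of k))))).Over (Spec (CommRingCat.of k)) :=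
    ⟨PicF.XTproj x (Over.mk (𝟙 (Spec (CommRingCat.of k))))⟩
  refine (finrank_cotangent_eq Q.hom σ hσ halg).trans ?_
  have hEf := isFlatOver_field x H
  let P : (CotangentSpace (St σ) →ₗ[k] k) → Def0 x H (s0 k) K₀ (dual k k) := fun l =>
    ofPt x H Ku K₀ g hg (ptOfDual Q.hom σ hσ halg l)
  let T : (CotangentSpace (St σ) →ₗ[k] k) →ₗ[k] (Subobject.underlying.obj K₀.1 ⟶ cokernel K₀.1.arrow) :=
    { toFun := fun l => tHom x H (s0 k) hEf K₀ (P l)
      map_add' := fun l l' => by
        have h := tHom_plus x H (s0 k) hEf K₀ (ofPt x H Ku K₀ g hg (ptOfPair Q.hom σ hσ halg l l'))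
        rw [← ofPt_map, ← ofPt_map, ← ofPt_map, ptOfPair_pr₁, ptOfPair_pr₂, ptOfPair_plus] at h
        exact h
      map_smul' := fun c l => by
        have h := tHom_scale x H (s0 k) hEf K₀ c (P l)
        rw [← ofPt_map, ptOfDual_scale] at h
        rw [RingHom.id_apply, KLin.smul_def, Formal.smulMod, ← smulMod_eq]
        exact h }
  have hT : Function.Bijective T := (tHom_bijective x H (s0 k) hEf hH K₀).comp
    ((ofPt_bijective x H Ku hQ K₀ g hg (dual k k)).comp (ptOfDual_bijective Q.hom σ hσ halg))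
  exact (LinearEquiv.ofBijective T hT).finrank_eq

end Groth.L14.Quot
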