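import Groth.Agent.L14.Quot.Point
import Groth.Agent.L14.LocHilb.StalkPoint

/-!
# Artinian lifting at a rational point of a relative Quot scheme
-/

set_option autoImplicit false
set_option linter.style.haveILetI false
set_option linter.unusedSectionVars false
set_option backward.isDefEq.respectTransparency false
set_option backward.isDefEq.respectTransparency.types false

universe u

open CategoryTheory CategoryTheory.Limits AlgebraicGeometry TopologicalSpace Opposite ArtFun ArtFun.Art IsLocalRing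

noncomputable section

namespace Groth.L14.Quot

open Groth.L14.LocHilb (St stRes stMap StHom specMap_stMap specMap_stRes)

variable {k : Type u} [Field k] {X S : Scheme.{u}} (f : X ⟶ S) (E : X.Modules) (hEf : FlatMod.IsFlatOver f E)
  (hE : Coh.IsCoh E) (σ : S ⟶ Spec (CommRingCat.of k)) {Q : Over S} (Ku : FGA.QuotSet f E Q)
  (hQ : FGA.QuotRepresentedBy f E Q Ku) (sb : spec (base k k) ⟶ S) (hsb : sb ≫ σ = 𝟙 _)
  (K₀ : FGA.QuotSet f E (Over.mk sb)) (g : Over.mk sb ⟶ Q) (hg : FGA.quotPull f E g Ku.1 = K₀.1)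
  [HasExt.{u} (PicF.XT f (Over.mk sb)).Modules]
  (hExt : Subsingleton (Abelian.Ext.{u} (Subobject.underlying.obj K₀.1) (cokernel K₀.1.arrow) 1))

include hEf hE hQ hsb hg hExt in
theorem exists_artinian_lift (A' : Type u) [CommRing A'] [IsLocalRing A'] [IsArtinianRing A']
    (h : S.presheaf.stalk (Q.hom (g.left (closedPoint k))) →+* A')
    (I : Ideal A') (hI : I ≠ ⊤)
    (g₀ : Q.left.presheaf.stalk (g.left (closedPoint k)) →+* A' ⧸ I)
    (hcomm : g₀.comp (Q.hom.stalkMap (g.left (closedPoint k))).hom = (Ideal.Quotient.mk I).comp h)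
    (hmax : ∀ b ∈ maximalIdeal (Q.left.presheaf.stalk (g.left (closedPoint k))),
      g₀ b ∈ (maximalIdeal A').map (Ideal.Quotient.mk I))
    (hres : ∀ a' : A', ∃ b, g₀ b - Ideal.Quotient.mk I a' ∈ (maximalIdeal A').map (Ideal.Quotient.mk I)) :
    ∃ G : Q.left.presheaf.stalk (g.left (closedPoint k)) →+* A',
      G.comp (Q.hom.stalkMap (g.left (closedPoint k))).hom = h ∧ (Ideal.Quotient.mk I).comp G = g₀ := by
  classical
  let σP : specPt k ⟶ Q.left := g.left
  let pq : Q.left ⟶ specPt k := Q.hom ≫ σ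
  have hgπ : g.left ≫ Q.hom = sb := Over.w g
  have hσ : σP ≫ pq = 𝟙 _ := by
    show g.left ≫ Q.hom ≫ σ = _
    rw [reassoc_of% hgπ, hsb]
    rfl
  let x := g.left (closedPoint k)
  let sB : Spec (CommRingCat.of A') ⟶ S := Spec.map (CommRingCat.ofHom h) ≫ S.fromSpecStalk (Q.hom x)
  let a : CommRingCat.of k ⟶ CommRingCat.of A' := Spec.preimage (sB ≫ σ)
  letI : Algebra k A' := a.hom.toAlgebra
  let mk : CommRingCat.of A' ⟶ CommRingCat.of (A' ⧸ I) := CommRingCat.ofHom (Ideal.Quotient.mk I)
  let eA : Spec (CommRingCat.of (A' ⧸ I)) ⟶ Q.left := Spec.map (CommRingCat.ofHom g₀) ≫ Q.left.fromSpecStalk x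
  have heA : eA ≫ Q.hom = Spec.map mk ≫ sB := by
    show (Spec.map (CommRingCat.ofHom g₀) ≫ Q.left.fromSpecStalk x) ≫ Q.hom = _
    rw [Category.assoc, ← Scheme.SpecMap_stalkMap_fromSpecStalk, ← Spec.map_comp_assoc, ← Spec.map_comp_assoc]
    exact congrArg (fun r => Spec.map r ≫ S.fromSpecStalk (Q.hom x)) (CommRingCat.hom_ext hcomm)
  have hcst : ∀ c, g₀ ((stMap pq σP).hom c) = Ideal.Quotient.mk I (algebraMap k A' c) := fun c => by
    have e : stMap pq σP ≫ CommRingCat.ofHom g₀ = a ≫ mk := by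
      apply Spec.map_injective
      rw [Spec.map_comp, Spec.map_comp, specMap_stMap, Spec.map_preimage]
      show Spec.map (CommRingCat.ofHom g₀) ≫ Q.left.fromSpecStalk x ≫ Q.hom ≫ σ = _
      rw [← Category.assoc, ← Category.assoc]
      exact (congrArg (· ≫ σ) heA).trans (Category.assoc _ _ _)
    exact ConcreteCategory.congr_hom e c
  letI : Algebra k (St σP) := (stMap pq σP).hom.toAlgebra
  have hsub : ∀ b : St σP, b - (stMap pq σP).hom ((stRes σP).hom b) ∈ maximalIdeal (St σP) := fun b =>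
    Groth.L14.LocHilb.sub_mem_max pq σP hσ rfl b
  have hbij : Function.Bijective ((residue A').comp (algebraMap k A')) := by
    refine ⟨RingHom.injective _, fun z => ?_⟩
    obtain ⟨a', rfl⟩ := residue_surjective z
    obtain ⟨b, hb⟩ := hres a'
    refine ⟨(stRes σP).hom b, ?_⟩
    have h1 := hmax _ (hsub b)
    rw [map_sub, hcst] at h1
    have h2 := sub_mem hb h1
    rw [sub_sub_sub_cancel_left, ← map_sub, ← Ideal.mem_comap, Ideal.comap_map_of_surjective' _ Ideal.Quotient.mk_surjective,
      Ideal.mk_ker, sup_eq_left.2 (IsLocalRing.le_maximalIdeal hI)] at h2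
    rw [RingHom.comp_apply, ← sub_eq_zero, ← map_sub, residue_eq_zero_iff]
    exact h2
  let eK : k ≃+* ResidueField A' := RingEquiv.ofBijective _ hbij
  let r : A' →ₐ[k] k :=
    { (eK.symm.toRingHom).comp (residue A') with commutes' := fun c => eK.symm_apply_apply c }
  let B : Art k k := { carrier := A', res := r, res_surjective := fun c => ⟨algebraMap k A' c, r.commutes c⟩ }
  have hIm : I ≤ maximalIdeal B := IsLocalRing.le_maximalIdeal hI
  let p := quotMk B I hIm
  let A := quot B I hIm
  let φ : StHom pq σP A :=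
    { hom := CommRingCat.ofHom g₀
      comm := CommRingCat.hom_ext (RingHom.ext fun c => hcst c)
      res := CommRingCat.hom_ext (RingHom.ext fun b => by
        show A.res (g₀ b) = (stRes σP).hom b
        have h1 := (A.mem_maximalIdeal_iff _).1 (show g₀ (b - (stMap pq σP).hom ((stRes σP).hom b)) ∈ maximalIdeal A from by
          refine (Ideal.map_le_iff_le_comap.2 fun z hz => ?_) (hmax _ (hsub b))
          rw [Ideal.mem_comap, A.mem_maximalIdeal_iff]
          exact (AlgHom.congr_fun p.res_comp z).trans ((B.mem_maximalIdeal_iff z).1 hz))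
        rw [map_sub, map_sub, sub_eq_zero, hcst] at h1
        exact h1.trans ((AlgHom.congr_fun p.res_comp _).trans (r.commutes _))) }
  have hptA : φ.pt = eA := rfl
  let sA : spec A ⟶ S := specMap p ≫ sB
  let eAo : Over.mk sA ⟶ Q := Over.homMk eA heA
  have hspec : specMap (toBase A) ≫ eA = g.left := φ.specRes_pt
  have w0 : specMap (toBase A) ≫ sA = sb := by
    rw [← hgπ, ← hspec, Category.assoc]
    exact congrArg (specMap (toBase A) ≫ ·) heA.symm
  let KA : FGA.QuotSet f E (Over.mk sA) := ⟨FGA.quotPull f E eAo Ku.1, quotPull_mem f E eAo Ku⟩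
  have hKA : FGA.quotPull f E (gp (toBase A) w0) KA.1 = K₀.1 := by
    show FGA.quotPull f E (gp (toBase A) w0) (FGA.quotPull f E eAo Ku.1) = _
    rw [← quotPull_comp, ← hg]
    exact congrArg (fun e => FGA.quotPull f E e Ku.1) (Over.OverMorphism.ext hspec)
  obtain ⟨K', hK'⟩ := exists_lift_of_ext f E hEf K₀ hE hExt p (quotMk_surjective B I hIm)
    (sB := sB) (rfl : specMap p ≫ sB = sA) w0 KA hKA
  haveI : IsLocallyNoetherian (Over.mk sB).left :=
    inferInstanceAs (IsLocallyNoetherian (Spec (CommRingCat.of A')))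
  haveI : IsLocallyNoetherian (Over.mk sA).left :=
    inferInstanceAs (IsLocallyNoetherian (Spec (CommRingCat.of A)))
  obtain ⟨eB, heB, -⟩ := hQ.2 (Over.mk sB) K'
  obtain ⟨e₀, -, hu⟩ := hQ.2 (Over.mk sA) KA
  have hcomp : gp p (rfl : specMap p ≫ sB = sA) ≫ eB = eAo :=
    (hu _ ((quotPull_comp f E _ eB Ku.1).trans ((congrArg _ heB).trans hK'))).trans (hu eAo rfl).symm
  have hcompl : specMap p ≫ eB.left = eA := congrArg CommaMorphism.left hcomp
  obtain ⟨ψ, hψ⟩ := StHom.exists_pt (π := pq) (σ := σP) (A := B) eB.left (by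
      show eB.left ≫ Q.hom ≫ σ = _
      rw [← Category.assoc, show eB.left ≫ Q.hom = sB from Over.w eB]
      exact (Spec.map_preimage _).symm) (by
      show specMap (toBase B) ≫ eB.left = g.left
      rw [← eq_toBase (p ≫ toBase A), specMap_comp, Category.assoc, hcompl, hspec])
  refine ⟨ψ.hom.hom, ?_, ?_⟩
  · have e : Q.hom.stalkMap x ≫ ψ.hom = CommRingCat.ofHom h := by
      apply Spec.map_injective
      rw [← cancel_mono (S.fromSpecStalk (Q.hom x)), Spec.map_comp, Category.assoc,
        Scheme.SpecMap_stalkMap_fromSpecStalk, ← Category.assoc]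
      exact (congrArg (· ≫ Q.hom) hψ).trans (Over.w eB)
    exact congrArg CommRingCat.Hom.hom e
  · have e : ψ.map p = φ := StHom.pt_injective (by rw [Groth.L14.LocHilb.StHom.pt_map, hψ, hcompl, hptA])
    exact congrArg (fun θ : StHom pq σP A => θ.hom.hom) e

end Groth.L14.Quot
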