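import Groth.Agent.L14.Quot.Alg
import Groth.Agent.L14.Quot.Pull
import Groth.Agent.L14.Quot.Base
import Groth.Agent.L14.Quot.Scalar

/-!
# A quotient over the smaller ring, seen on the bigger one
-/

set_option autoImplicit false
set_option linter.style.haveILetI false
set_option linter.unusedSectionVars false
set_option backward.isDefEq.respectTransparency false
set_option backward.isDefEq.respectTransparency.types false

universe u

open CategoryTheory CategoryTheory.Limits AlgebraicGeometry TopologicalSpace Opposite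

noncomputable section

namespace Groth.L14.Quot

variable {X Y : Scheme.{u}}

theorem c₀_natural (h : X ⟶ Y) {M N : X.Modules} (a : M ⟶ N) (x : X)
    (q : (Groth.L00.Stk.F Y (h x)).obj ((Scheme.Modules.pushforward h).obj M)) :
    Groth.L17.ClosedPush.c₀ h N x (stMapₗ ((Scheme.Modules.pushforward h).map a) (h x) q) =
      stMapₗ a x (Groth.L17.ClosedPush.c₀ h M x q) := by
  obtain ⟨V, hV, m, rfl⟩ := Groth.L00.StalkTensor.exists_germ
    (Groth.L00.Tensor.pre ((Scheme.Modules.pushforward h).obj M)) (h x) q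
  refine ((congrArg (Groth.L17.ClosedPush.c₀ h N x) (Groth.L17.ClosedPush.stk_map_germ _ (h x) hV m)).trans
    (Groth.L17.ClosedPush.c₀_germ h N x hV _)).trans ?_
  exact ((congrArg (stMapₗ a x) (Groth.L17.ClosedPush.c₀_germ h M x hV m)).trans
    (Groth.L17.ClosedPush.stk_map_germ a x (show x ∈ h ⁻¹ᵁ V from hV) m)).symm

theorem c₀_transpose (h : X ⟶ Y) {N : Y.Modules} {M : X.Modules} (a : (Scheme.Modules.pullback h).obj N ⟶ M)
    (x : X) (q : (Groth.L00.Stk.F Y (h x)).obj N) :
    Groth.L17.ClosedPush.c₀ h M x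
        (stMapₗ (((Scheme.Modules.pullbackPushforwardAdjunction h).homEquiv N M) a) (h x) q) =
      stMapₗ a x (pm h N x q) := by
  rw [Adjunction.homEquiv_unit, stMapₗ_comp_apply]
  exact c₀_natural h a x _

theorem stMapₗ_transpose_eq_zero_iff (h : X ⟶ Y) [IsClosedImmersion h] {N : Y.Modules} {M : X.Modules}
    (a : (Scheme.Modules.pullback h).obj N ⟶ M) (x : X) (q : (Groth.L00.Stk.F Y (h x)).obj N) :
    stMapₗ (((Scheme.Modules.pullbackPushforwardAdjunction h).homEquiv N M) a) (h x) q = 0 ↔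
      stMapₗ a x (pm h N x q) = 0 := by
  rw [← c₀_transpose]
  exact (map_eq_zero_iff _ (Groth.L17.ClosedPush.c₀_bijective h M x).1).symm

variable {S : Scheme.{u}} (f : X ⟶ S) (E : X.Modules) {T T' : Over S}

/-- The map to the pushforward of the quotient. -/
def piSub (g : T' ⟶ T) (K : Subobject (FGA.ET f E T')) :
    FGA.ET f E T ⟶ (Scheme.Modules.pushforward (PicF.XTmap f g)).obj (cokernel K.arrow) :=
  (Scheme.Modules.pullbackPushforwardAdjunction (PicF.XTmap f g)).homEquiv _ _
    ((FGA.ETiso f E g).hom ≫ cokernel.π K.arrow)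

/-- The preimage of a submodule. -/
def preSub (g : T' ⟶ T) (K : Subobject (FGA.ET f E T')) : Subobject (FGA.ET f E T) :=
  kernelSubobject (piSub f E g K)

theorem mem_preSub_iff (g : T' ⟶ T) [IsClosedImmersion (PicF.XTmap f g)] (K : Subobject (FGA.ET f E T'))
    (z : PicF.XT f T') (q : (Groth.L00.Stk.F (PicF.XT f T) (PicF.XTmap f g z)).obj (FGA.ET f E T)) :
    q ∈ stR (preSub f E g K) (PicF.XTmap f g z) ↔ pmE f E g z q ∈ stR K z := by
  rw [preSub, stR_kernel, LinearMap.mem_ker, piSub, stMapₗ_transpose_eq_zero_iff, stR_eq_ker_cokernel,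
    LinearMap.mem_ker, stMapₗ_comp_apply]
  rfl

theorem quotPull_preSub (g : T' ⟶ T) [IsClosedImmersion (PicF.XTmap f g)] (K : Subobject (FGA.ET f E T')) :
    FGA.quotPull f E g (preSub f E g K) = K := by
  refine ext_stalk fun z => ?_
  rw [stR_quotPull]
  refine le_antisymm (Submodule.span_le.2 ?_) fun e he => ?_
  · rintro _ ⟨q, hq, rfl⟩
    exact (mem_preSub_iff f E g K z q).1 hq
  · obtain ⟨q, rfl⟩ := pmE_surjective f E g z e
    exact Submodule.subset_span ⟨q, (mem_preSub_iff f E g K z q).2 he, rfl⟩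

theorem mem_stR_quotPull_iff (g : T' ⟶ T) [IsClosedImmersion (PicF.XTmap f g)] (L : Subobject (FGA.ET f E T))
    (z : PicF.XT f T') (e : (Groth.L00.Stk.F (PicF.XT f T') z).obj (FGA.ET f E T')) :
    e ∈ stR (FGA.quotPull f E g L) z ↔ ∃ q ∈ stR L (PicF.XTmap f g z), pmE f E g z q = e := by
  haveI : RingHomSurjective ((PicF.XTmap f g).stalkMap z).hom := ⟨(PicF.XTmap f g).stalkMap_surjective z⟩
  rw [stR_quotPull, ← Submodule.map_coe, Submodule.span_eq, Submodule.mem_map]

theorem pmE_eq_zero_iff (g : T' ⟶ T) [IsClosedImmersion (PicF.XTmap f g)] (z : PicF.XT f T')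
    (q : (Groth.L00.Stk.F (PicF.XT f T) (PicF.XTmap f g z)).obj (FGA.ET f E T)) :
    pmE f E g z q = 0 ↔ q ∈ RingHom.ker ((PicF.XTmap f g).stalkMap z).hom •
      (⊤ : Submodule ((PicF.XT f T).presheaf.stalk (PicF.XTmap f g z)) _) := by
  rw [← pm_eq_zero_iff]
  exact map_eq_zero_iff (stMapₗ (FGA.ETiso f E g).hom z) (stMapₗ_injective _ z)

/-- A small extension of rings with residue ring `C`. -/
structure SExt {B A C : CommRingCat.{u}} (p : B ⟶ A) (q : A ⟶ C) (t : B) : Prop where
  surj : Function.Surjective p.hom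
  surj' : Function.Surjective q.hom
  isMax : (RingHom.ker (p ≫ q).hom).IsMaximal
  nil : IsNilpotent (RingHom.ker (p ≫ q).hom)
  mem : t ∈ RingHom.ker (p ≫ q).hom
  ann : ∀ b, b * t = 0 ↔ b ∈ RingHom.ker (p ≫ q).hom
  ker : RingHom.ker p.hom = Ideal.span {t}

section Setting

variable {B A C : CommRingCat.{u}} {p : B ⟶ A} {q : A ⟶ C} {t : B} (H : SExt p q t)
  {sB : Spec B ⟶ S} {sA : Spec A ⟶ S} {sC : Spec C ⟶ S} (wA : Spec.map p ≫ sB = sA) (wC : Spec.map q ≫ sA = sC)

/-- The closed immersion of bases. -/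
abbrev gA : Over.mk sA ⟶ Over.mk sB := Over.homMk (Spec.map p) wA

/-- The closed point of the smaller base. -/
abbrev gAC : Over.mk sC ⟶ Over.mk sA := Over.homMk (Spec.map q) wC

/-- The closed point of the bigger base. -/
abbrev gC : Over.mk sC ⟶ Over.mk sB := gAC wC ≫ gA wA

theorem isPullback_gA :
    IsPullback (PicF.XTmap f (gA wA)) (PicF.XTproj f (Over.mk sA)) (PicF.XTproj f (Over.mk sB)) (Spec.map p) :=
  isPullback_XTmap f (gA wA)

theorem isPullback_gC :
    IsPullback (PicF.XTmap f (gC wA wC)) (PicF.XTproj f (Over.mk sC)) (PicF.XTproj f (Over.mk sB))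
      (Spec.map (p ≫ q)) := by
  rw [Spec.map_comp]
  exact isPullback_XTmap f (gC wA wC)

include H in
theorem closedImmersion_gA : IsClosedImmersion (PicF.XTmap f (gA wA)) :=
  haveI := IsClosedImmersion.spec_of_surjective p H.surj
  MorphismProperty.of_isPullback (isPullback_gA f wA).flip inferInstance

include H in
theorem closedImmersion_gC : IsClosedImmersion (PicF.XTmap f (gC wA wC)) :=
  haveI := IsClosedImmersion.spec_of_surjective (p ≫ q) (show Function.Surjective (q.hom ∘ p.hom) from H.surj'.comp H.surj)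
  MorphismProperty.of_isPullback (isPullback_gC f wA wC).flip inferInstance

include H in
theorem surjective_gC : Function.Surjective (PicF.XTmap f (gC wA wC)) :=
  surjective_bc (p ≫ q) (show Function.Surjective (q.hom ∘ p.hom) from H.surj'.comp H.surj) H.nil
    (isPullback_gC f wA wC)

include H in
theorem surjective_gA : Function.Surjective (PicF.XTmap f (gA wA)) := by
  refine surjective_bc p H.surj ?_ (isPullback_gA f wA)
  obtain ⟨n, hn⟩ := H.nil
  refine ⟨n, eq_bot_iff.2 ((Ideal.pow_right_mono (fun b hb => ?_) n).trans hn.le)⟩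
  rw [H.ker, Ideal.mem_span_singleton'] at hb
  obtain ⟨c, rfl⟩ := hb
  exact Ideal.mul_mem_left _ c H.mem

/-- The base ring acting on stalks. -/
abbrev bet (sB : Spec B ⟶ S) (y : PicF.XT f (Over.mk sB)) : B →+* (PicF.XT f (Over.mk sB)).presheaf.stalk y :=
  β (PicF.XTproj f (Over.mk sB)) y

/-- The ideal of the closed fibre on stalks. -/
abbrev mO (p : B ⟶ A) (q : A ⟶ C) (sB : Spec B ⟶ S) (y : PicF.XT f (Over.mk sB)) :
    Ideal ((PicF.XT f (Over.mk sB)).presheaf.stalk y) :=
  (RingHom.ker (p ≫ q).hom).map (bet f sB y)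

/-- The stalk of `E` on the thickening. -/
abbrev PB (sB : Spec B ⟶ S) (y : PicF.XT f (Over.mk sB)) :
    ModuleCat.{u} ((PicF.XT f (Over.mk sB)).presheaf.stalk y) :=
  (Groth.L00.Stk.F (PicF.XT f (Over.mk sB)) y).obj (FGA.ET f E (Over.mk sB))

/-- The stalk vanishing on the closed fibre. -/
abbrev mP (p : B ⟶ A) (q : A ⟶ C) (sB : Spec B ⟶ S) (y : PicF.XT f (Over.mk sB)) :
    Submodule ((PicF.XT f (Over.mk sB)).presheaf.stalk y) (PB f E sB y) :=
  mO f p q sB y • ⊤

include H in
theorem pmE_gC_eq_zero_iff (w : PicF.XT f (Over.mk sC))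
    (x : (Groth.L00.Stk.F (PicF.XT f (Over.mk sB)) (PicF.XTmap f (gC wA wC) w)).obj (FGA.ET f E (Over.mk sB))) :
    pmE f E (gC wA wC) w x = 0 ↔
      x ∈ mP f E p q sB (PicF.XTmap f (gC wA wC) w) := by
  haveI := closedImmersion_gC f H wA wC
  rw [pmE_eq_zero_iff, ker_stalkMap_bc (p ≫ q)
    (show Function.Surjective (q.hom ∘ p.hom) from H.surj'.comp H.surj) (isPullback_gC f wA wC) w]

include H in
theorem pmE_gA_eq_zero_iff (z : PicF.XT f (Over.mk sA))
    (x : (Groth.L00.Stk.F (PicF.XT f (Over.mk sB)) (PicF.XTmap f (gA wA) z)).obj (FGA.ET f E (Over.mk sB))) :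
    pmE f E (gA wA) z x = 0 ↔
      ∃ x' : PB f E sB (PicF.XTmap f (gA wA) z), bet f sB (PicF.XTmap f (gA wA) z) t • x' = x := by
  haveI := closedImmersion_gA f H wA
  rw [pmE_eq_zero_iff, ker_stalkMap_bc p H.surj (isPullback_gA f wA) z, H.ker, Ideal.map_span,
    Set.image_singleton, Submodule.ideal_span_singleton_smul, Submodule.mem_smul_pointwise_iff_exists]
  exact ⟨fun ⟨a, _, h⟩ => ⟨a, h⟩, fun ⟨a, h⟩ => ⟨a, trivial, h⟩⟩

/-- The facts at a point of the thickening. -/
structure Facts (p : B ⟶ A) (q : A ⟶ C) (t : B) (wA : Spec.map p ≫ sB = sA)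
    (K : Subobject (FGA.ET f E (Over.mk sA))) (y : PicF.XT f (Over.mk sB)) : Prop where
  smulMem : ∀ x : PB f E sB y, bet f sB y t • x ∈ stR (preSub f E (gA wA) K) y
  smulIff : ∀ x : PB f E sB y, bet f sB y t • x ∈ mO f p q sB y • stR (preSub f E (gA wA) K) y ↔
    x ∈ stR (preSub f E (gA wA) K) y ⊔ mP f E p q sB y
  split : ∀ x ∈ stR (preSub f E (gA wA) K) y, x ∈ mP f E p q sB y →
    ∃ x' : PB f E sB y, x - bet f sB y t • x' ∈ mO f p q sB y • stR (preSub f E (gA wA) K) y
  flat : ∀ L : Subobject (FGA.ET f E (Over.mk sB)), stR L y ≤ stR (preSub f E (gA wA) K) y →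
    (∀ x ∈ stR (preSub f E (gA wA) K) y, ∃ x' : PB f E sB y, x - bet f sB y t • x' ∈ stR L y) →
    (∀ x : PB f E sB y, bet f sB y t • x ∈ stR L y ↔ x ∈ stR (preSub f E (gA wA) K) y ⊔ mP f E p q sB y) →
    FlatMod.IsFlatOverAt (PicF.XTproj f (Over.mk sB)) (cokernel L.arrow) y
  flatMem : ∀ L : Subobject (FGA.ET f E (Over.mk sB)),
    FlatMod.IsFlatOverAt (PicF.XTproj f (Over.mk sB)) (cokernel L.arrow) y →
    ∀ x : PB f E sB y, bet f sB y t • x ∈ stR L y → x ∈ stR L y ⊔ mP f E p q sB y

include H in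
theorem facts (hE : FlatMod.IsFlatOver (PicF.XTproj f (Over.mk sB)) (FGA.ET f E (Over.mk sB)))
    {K : Subobject (FGA.ET f E (Over.mk sA))}
    (hK : FlatMod.IsFlatOver (PicF.XTproj f (Over.mk sA)) (cokernel K.arrow))
    (y : PicF.XT f (Over.mk sB)) : Facts f E p q t wA K y := by
  haveI := closedImmersion_gA f H wA
  obtain ⟨z, rfl⟩ := surjective_gA f H wA y
  haveI := H.isMax
  let i := PicF.XTmap f (gA wA)
  let O := (PicF.XT f (Over.mk sB)).presheaf.stalk (i z)
  let O' := (PicF.XT f (Over.mk sA)).presheaf.stalk z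
  let P := (Groth.L00.Stk.F (PicF.XT f (Over.mk sB)) (i z)).obj (FGA.ET f E (Over.mk sB))
  let P' := (Groth.L00.Stk.F (PicF.XT f (Over.mk sA)) z).obj (FGA.ET f E (Over.mk sA))
  let Q := P' ⧸ stR K z
  let β' : A →+* O' := β (PicF.XTproj f (Over.mk sA)) z
  letI : Algebra B A := p.hom.toAlgebra
  letI : Algebra B O := (bet f sB (i z)).toAlgebra
  letI : Module B P := Module.compHom _ (bet f sB (i z))
  haveI : IsScalarTower B O P := IsScalarTower.of_algebraMap_smul fun _ _ => rfl
  haveI : Module.Flat B P := (isFlatOverAt_iff_β _ _ _).1 (hE (i z))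
  letI : Module A Q := Module.compHom _ β'
  letI : Module B Q := Module.compHom _ (β'.comp p.hom)
  haveI : IsScalarTower B A Q := IsScalarTower.of_algebraMap_smul fun _ _ => rfl
  haveI : Module.Flat A Q := by
    letI : Module A ((Groth.L00.Stk.F (PicF.XT f (Over.mk sA)) z).obj (cokernel K.arrow)) := Module.compHom _ β'
    haveI : Module.Flat A ((Groth.L00.Stk.F (PicF.XT f (Over.mk sA)) z).obj (cokernel K.arrow)) :=
      (isFlatOverAt_iff_β _ _ _).1 (hK z)
    let e : Q ≃ₗ[A] (Groth.L00.Stk.F (PicF.XT f (Over.mk sA)) z).obj (cokernel K.arrow) :=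
      { (quotEquiv K z).toAddEquiv with map_smul' := fun r m => (quotEquiv K z).map_smul (β' r) m }
    exact Module.Flat.of_linearEquiv e
  let π : P →ₗ[B] Q :=
    { toFun := fun x => Submodule.Quotient.mk (pmE f E (gA wA) z x)
      map_add' := fun a b => by rw [map_add, Submodule.Quotient.mk_add]
      map_smul' := fun b x => by
        show Submodule.Quotient.mk (pmE f E (gA wA) z (bet f sB (i z) b • x)) =
          β' (p.hom b) • (Submodule.Quotient.mk (pmE f E (gA wA) z x) : Q)
        rw [LinearMap.map_smulₛₗ, stalkMap_β p (isPullback_gA f wA).w, Submodule.Quotient.mk_smul] }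
  have hπ : Function.Surjective π := fun e => by
    obtain ⟨e, rfl⟩ := Submodule.Quotient.mk_surjective _ e
    obtain ⟨x, rfl⟩ := pmE_surjective f E (gA wA) z e
    exact ⟨x, rfl⟩
  let K₁ := stR (preSub f E (gA wA) K) (i z)
  have hker : LinearMap.ker π = K₁.restrictScalars B := by
    ext x
    rw [LinearMap.mem_ker, Submodule.restrictScalars_mem, mem_preSub_iff]
    exact Submodule.Quotient.mk_eq_zero _
  let m := RingHom.ker (p ≫ q).hom
  have D : SmallData m (A := A) (t := t) := ⟨H.nil, H.mem, H.ann, H.surj, H.ker⟩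
  have hm : ∀ (N : Submodule O P) x, x ∈ mO f p q sB (i z) • N ↔ x ∈ m • N.restrictScalars B := fun N x => by
    rw [← Ideal.smul_restrictScalars]
    rfl
  have hsup : ∀ (N : Submodule O P) x, x ∈ N ⊔ mO f p q sB (i z) • ⊤ ↔
      x ∈ N.restrictScalars B ⊔ m • ⊤ := fun N x => by
    simp only [Submodule.mem_sup, Submodule.restrictScalars_mem, hm, Submodule.restrictScalars_top]
  refine ⟨fun x => ?_, fun x => ?_, fun x hx hx' => ?_, fun L hle hsum hcap => ?_, fun L hL x hx => ?_⟩
  · have := smul_t_mem_ker π D x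
    rwa [hker] at this
  · rw [hm, hsup, ← hker]
    exact smul_t_mem_smul_iff π D hπ x
  · obtain ⟨x', h⟩ := exists_of_mem_of_mem_smul π D hπ (x := x) (by rw [hker]; exact hx)
      (by rwa [hm, Submodule.restrictScalars_top] at hx')
    exact ⟨x', by rw [hm, ← hker]; exact h⟩
  · have hF : Module.Flat B (P ⧸ (stR L (i z)).restrictScalars B) :=
      flat_quotient π D hπ _ (by rw [hker]; exact fun x h => hle h)
        (fun x h => hsum x (by rwa [hker] at h)) fun x => by
          rw [hker, ← hsup]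
          exact hcap x
    rw [isFlatOverAt_iff_β]
    letI : Module B ((Groth.L00.Stk.F (PicF.XT f (Over.mk sB)) (i z)).obj (cokernel L.arrow)) :=
      Module.compHom _ (bet f sB (i z))
    haveI := hF
    let e : (P ⧸ (stR L (i z)).restrictScalars B) ≃ₗ[B]
        (Groth.L00.Stk.F (PicF.XT f (Over.mk sB)) (i z)).obj (cokernel L.arrow) :=
      { (quotEquiv L (i z)).toAddEquiv with
        map_smul' := fun r m => (quotEquiv L (i z)).map_smul (bet f sB (i z) r) m }
    exact (Module.Flat.of_linearEquiv e.symm :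
      Module.Flat B ((Groth.L00.Stk.F (PicF.XT f (Over.mk sB)) (i z)).obj (cokernel L.arrow)))
  · letI : Module B ((Groth.L00.Stk.F (PicF.XT f (Over.mk sB)) (i z)).obj (cokernel L.arrow)) :=
      Module.compHom _ (bet f sB (i z))
    haveI : Module.Flat B ((Groth.L00.Stk.F (PicF.XT f (Over.mk sB)) (i z)).obj (cokernel L.arrow)) :=
      (isFlatOverAt_iff_β _ _ _).1 hL
    let e : (P ⧸ (stR L (i z)).restrictScalars B) ≃ₗ[B]
        (Groth.L00.Stk.F (PicF.XT f (Over.mk sB)) (i z)).obj (cokernel L.arrow) :=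
      { (quotEquiv L (i z)).toAddEquiv with
        map_smul' := fun r m => (quotEquiv L (i z)).map_smul (bet f sB (i z) r) m }
    haveI : Module.Flat B (P ⧸ (stR L (i z)).restrictScalars B) := Module.Flat.of_linearEquiv e
    rw [hsup]
    exact mem_of_smul_t_mem D ((stR L (i z)).restrictScalars B) hx

end Setting

end Groth.L14.Quot
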