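import Groth.Agent.L14.Quot.Art
import Groth.Agent.L14.Quot.Diff

/-!
# First order deformations of a quotient
-/

set_option autoImplicit false
set_option linter.style.haveILetI false
set_option linter.unusedSectionVars false
set_option backward.isDefEq.respectTransparency false
set_option backward.isDefEq.respectTransparency.types false

universe u

open CategoryTheory CategoryTheory.Limits AlgebraicGeometry TopologicalSpace Opposite ArtFun ArtFun.Art

noncomputable section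

namespace Groth.L14.Quot

variable {k : Type u} [Field k] {X S : Scheme.{u}} (f : X ⟶ S) (E : X.Modules)

theorem specMap_toBase_base : specMap (toBase (base k k)) = 𝟙 (spec (base k k)) := by
  rw [← eq_toBase (𝟙 (base k k)), specMap_id]

variable (s0 : spec (base k k) ⟶ S)

/-- The constant family of base points. -/
abbrev cst (A : Art k k) : spec A ⟶ S := specMap (ofBase A) ≫ s0

theorem wP {B A : Art k k} (p : B ⟶ A) : specMap p ≫ cst s0 B = cst s0 A := by
  rw [cst, ← Category.assoc]; exact congrArg (· ≫ s0) (specOver_comp p)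

theorem w0 (A : Art k k) : specMap (toBase A) ≫ cst s0 A = s0 := by
  rw [wP, cst]
  refine (congrArg (· ≫ s0) ?_).trans (Category.id_comp s0)
  rw [eq_toBase (ofBase (base k k)), specMap_toBase_base]

theorem wbase : specMap (toBase (base k k)) ≫ s0 = s0 := by rw [specMap_toBase_base, Category.id_comp]

theorem sExt_of_gen {B A : Art k k} (p : B ⟶ A) (hs : Function.Surjective p) {t : B} (ht0 : t ≠ 0)
    (hker : RingHom.ker p.toAlgHom.toRingHom = Ideal.span {t})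
    (hm : ∀ b, B.res b = 0 → b * t = 0) : SExt (rh p) (rh (toBase A)) t := by
  have hmax : RingHom.ker (rh p ≫ rh (toBase A)).hom = IsLocalRing.maximalIdeal B := by
    ext b
    rw [B.mem_maximalIdeal_iff, RingHom.mem_ker]
    show A.res (p b) = 0 ↔ _
    rw [show A.res (p b) = B.res b from AlgHom.congr_fun p.res_comp b]
  refine ⟨hs, fun a => A.res_surjective a, hmax ▸ inferInstance, ?_, ?_, fun b => ?_, hker⟩
  · rw [hmax, ← IsLocalRing.jacobson_eq_maximalIdeal ⊥ bot_ne_top]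
    exact IsArtinianRing.isNilpotent_jacobson_bot
  · rw [hmax, B.mem_maximalIdeal_iff, ← AlgHom.congr_fun p.res_comp t]
    show A.res (p t) = 0
    rw [show p t = 0 from RingHom.mem_ker.1
      (hker ▸ Ideal.mem_span_singleton_self t : t ∈ RingHom.ker p.toAlgHom.toRingHom), map_zero]
  · rw [hmax]
    refine ⟨fun h => ?_, fun hb => hm b ((B.mem_maximalIdeal_iff b).1 hb)⟩
    by_contra hb
    exact ht0 (((IsLocalRing.notMem_maximalIdeal.1 hb).mul_right_eq_zero).1 h)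

/-- `ε`. -/
def eps : dual k k := (TrivSqZeroExt.inr 1 : TrivSqZeroExt k k)

/-- `ε₁`. -/
def eps₁ : dual2 k k := (TrivSqZeroExt.inr (1, 0) : TrivSqZeroExt k (k × k))

theorem sExt_dual : SExt (rh (toBase (dual k k))) (rh (toBase (base k k))) (eps (k := k)) := by
  refine sExt_of_gen _ (dual k k).res_surjective (fun h => one_ne_zero (congrArg TrivSqZeroExt.snd h : (1 : k) = 0))
    (le_antisymm (fun b hb => ?_) ((Ideal.span_singleton_le_iff_mem _).2 ?_)) fun b hb => ?_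
  · have hb' : (show TrivSqZeroExt k k from b).fst = 0 := RingHom.mem_ker.1 hb
    refine Ideal.mem_span_singleton'.2 ⟨(TrivSqZeroExt.inl (show TrivSqZeroExt k k from b).snd : TrivSqZeroExt k k), ?_⟩
    show (TrivSqZeroExt.inl _ * TrivSqZeroExt.inr (1 : k) : TrivSqZeroExt k k) = _
    refine TrivSqZeroExt.ext ?_ ?_ <;> simp [hb']
  · show (TrivSqZeroExt.inr (1 : k) : TrivSqZeroExt k k).fst = 0
    simp
  · have hb' : (show TrivSqZeroExt k k from b).fst = 0 := hb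
    show ((show TrivSqZeroExt k k from b) * TrivSqZeroExt.inr (1 : k) : TrivSqZeroExt k k) = (0 : TrivSqZeroExt k k)
    refine TrivSqZeroExt.ext ?_ ?_ <;> simp [hb']

theorem sExt_pr₂ : SExt (rh (pr₂ : dual2 k k ⟶ dual k k)) (rh (toBase (dual k k))) (eps₁ (k := k)) := by
  refine sExt_of_gen _ (fun a => ⟨((show TrivSqZeroExt k k from a).fst, (0, (show TrivSqZeroExt k k from a).snd)),
      TrivSqZeroExt.ext rfl rfl⟩)
    (fun h => one_ne_zero (congrArg Prod.fst (congrArg TrivSqZeroExt.snd h : ((1 : k), (0 : k)) = (0, 0))))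
    (le_antisymm (fun b hb => ?_) ((Ideal.span_singleton_le_iff_mem _).2 ?_)) fun b hb => ?_
  · have h1 : (show TrivSqZeroExt k (k × k) from b).fst = 0 := congrArg TrivSqZeroExt.fst (RingHom.mem_ker.1 hb)
    have h2 : (show TrivSqZeroExt k (k × k) from b).snd.2 = 0 := congrArg TrivSqZeroExt.snd (RingHom.mem_ker.1 hb)
    refine Ideal.mem_span_singleton'.2
      ⟨(TrivSqZeroExt.inl (show TrivSqZeroExt k (k × k) from b).snd.1 : TrivSqZeroExt k (k × k)), ?_⟩
    show (TrivSqZeroExt.inl _ * TrivSqZeroExt.inr ((1 : k), (0 : k)) : TrivSqZeroExt k (k × k)) = _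
    refine TrivSqZeroExt.ext ?_ (Prod.ext ?_ ?_) <;> simp
    · exact h1.symm
    · exact h2.symm
  · exact TrivSqZeroExt.ext rfl rfl
  · have hb' : (show TrivSqZeroExt k (k × k) from b).fst = 0 := hb
    show ((show TrivSqZeroExt k (k × k) from b) * TrivSqZeroExt.inr ((1 : k), (0 : k)) : TrivSqZeroExt k (k × k)) =
      (0 : TrivSqZeroExt k (k × k))
    refine TrivSqZeroExt.ext ?_ ?_ <;> simp [hb']

/-- `ε ↦ ε₂`. -/
def ι₂ : dual k k ⟶ dual2 k k := ⟨tszeMap (LinearMap.inr k k k), AlgHom.ext fun _ => rfl⟩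

theorem ι₂_pr₂ : (ι₂ : dual k k ⟶ dual2 k k) ≫ pr₂ = 𝟙 _ :=
  Art.hom_ext (AlgHom.ext fun _ => TrivSqZeroExt.ext rfl rfl)

theorem ι₂_plus : (ι₂ : dual k k ⟶ dual2 k k) ≫ plus = 𝟙 _ :=
  Art.hom_ext (AlgHom.ext fun b => TrivSqZeroExt.ext rfl (zero_add (show TrivSqZeroExt k k from b).snd))

theorem ι₂_pr₁ : (ι₂ : dual k k ⟶ dual2 k k) ≫ pr₁ = toBase (dual k k) ≫ baseToDual :=
  Art.hom_ext (AlgHom.ext fun _ => TrivSqZeroExt.ext rfl rfl)

variable (hEf : FlatMod.IsFlatOver f E) (hE : Coh.IsCoh E) (K₀ : FGA.QuotSet f E (Over.mk s0))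

/-- The deformations over `A` along the constant family. -/
def Def0 (A : Art k k) : Type (u + 1) :=
  {K : FGA.QuotSet f E (Over.mk (cst s0 A)) // FGA.quotPull f E (gp (toBase A) (w0 s0 A)) K.1 = K₀.1}

/-- Functoriality. -/
def Def0.map {B A : Art k k} (p : B ⟶ A) (K : Def0 f E s0 K₀ B) : Def0 f E s0 K₀ A :=
  ⟨pullQ f E p (wP s0 p) K.1, by
    show FGA.quotPull f E (gp (toBase A) (w0 s0 A)) (FGA.quotPull f E (gp p (wP s0 p)) K.1.1) = K₀.1
    rw [← quotPull_gp_toBase f E p (wP s0 p) (w0 s0 A) (w0 s0 B), K.2]⟩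

theorem Def0.map_map {C B A : Art k k} (p : C ⟶ B) (q : B ⟶ A) (K : Def0 f E s0 K₀ C) :
    (K.map f E s0 K₀ p).map f E s0 K₀ q = K.map f E s0 K₀ (p ≫ q) :=
  Subtype.ext (Subtype.ext (quotPull_gp_comp f E p q (wP s0 p) (wP s0 q) (wP s0 (p ≫ q)) K.1.1).symm)

theorem Def0.map_id {A : Art k k} (K : Def0 f E s0 K₀ A) : K.map f E s0 K₀ (𝟙 A) = K := by
  refine Subtype.ext (Subtype.ext ?_)
  show FGA.quotPull f E (gp (𝟙 A) (wP s0 (𝟙 A))) K.1.1 = K.1.1
  rw [show gp (𝟙 A) (wP s0 (𝟙 A)) = 𝟙 (Over.mk (cst s0 A)) from Over.OverMorphism.ext (specMap_id A), quotPull_id]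

theorem quotPull_gAC_base : FGA.quotPull f E (gAC (q := rh (toBase (base k k))) (wbase s0)) K₀.1 = K₀.1 := by
  rw [show gAC (q := rh (toBase (base k k))) (wbase s0) = 𝟙 (Over.mk s0) from
    Over.OverMorphism.ext specMap_toBase_base, quotPull_id]

theorem quotPull_base (w : specMap (toBase (base k k)) ≫ s0 = s0) :
    FGA.quotPull f E (gp (toBase (base k k)) w) K₀.1 = K₀.1 := quotPull_gAC_base f E s0 K₀

/-- The constant deformation. -/
def triv (A : Art k k) : Def0 f E s0 K₀ A :=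
  ⟨pullQ f E (ofBase A) (show specMap (ofBase A) ≫ s0 = cst s0 A from rfl) K₀, by
    show FGA.quotPull f E (gp (toBase A) (w0 s0 A)) (FGA.quotPull f E (gp (ofBase A) rfl) K₀.1) = K₀.1
    rw [← quotPull_gp_toBase f E (ofBase A) rfl (w0 s0 A) (wbase s0), quotPull_base]⟩

theorem map_triv {B A : Art k k} (p : B ⟶ A) : (triv f E s0 K₀ B).map f E s0 K₀ p = triv f E s0 K₀ A := by
  refine Subtype.ext (Subtype.ext ?_)
  show FGA.quotPull f E (gp p (wP s0 p)) (FGA.quotPull f E (gp (ofBase B) rfl) K₀.1) =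
    FGA.quotPull f E (gp (ofBase A) rfl) K₀.1
  rw [← quotPull_comp]
  exact congrArg (fun g => FGA.quotPull f E g K₀.1) (Over.OverMorphism.ext (by
    show specMap p ≫ specMap (ofBase B) = specMap (ofBase A)
    exact specOver_comp p))

include hEf in
theorem flatB (T : Over S) : FlatMod.IsFlatOver (PicF.XTproj f T) (FGA.ET f E T) := isFlatOver_ET f E hEf T

/-- A deformation over the dual numbers as a lift. -/
def toLift (L : Def0 f E s0 K₀ (dual k k)) :
    Lifts f E (p := rh (toBase (dual k k))) (w0 s0 (dual k k)) K₀ :=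
  ⟨L.1.1, L.1.2.2, L.2⟩

theorem hKc_base : Kc f E (p := rh (toBase (dual k k))) (q := rh (toBase (base k k))) (w0 s0 (dual k k))
    (wbase s0) K₀ = K₀.1 :=
  (Kc_eq f E (w0 s0 (dual k k)) (wbase s0) sExt_dual K₀).trans (quotPull_gAC_base f E s0 K₀)

/-- The homomorphism of a first order deformation. -/
def tHom (L : Def0 f E s0 K₀ (dual k k)) :
    Subobject.underlying.obj K₀.1 ⟶ cokernel K₀.1.arrow :=
  dif f E (w0 s0 (dual k k)) (wbase s0) sExt_dual (flatB f E hEf _) K₀ (hKc_base f E s0 K₀)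
    (toLift f E s0 K₀ L) (toLift f E s0 K₀ (triv f E s0 K₀ _))

include hE in
theorem tHom_bijective : Function.Bijective (tHom f E s0 hEf K₀) := by
  refine ⟨fun L L' h => ?_, fun d => ?_⟩
  · have e := dif_injective f E (w0 s0 (dual k k)) (wbase s0) sExt_dual (flatB f E hEf _) K₀ (hKc_base f E s0 K₀)
      (toLift f E s0 K₀ (triv f E s0 K₀ _)) h
    exact Subtype.ext (Subtype.ext (congrArg Subtype.val e :))
  · obtain ⟨L, hL⟩ := dif_surjective f E (w0 s0 (dual k k)) (wbase s0) sExt_dual (flatB f E hEf _) K₀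
      (hKc_base f E s0 K₀) (toLift f E s0 K₀ (triv f E s0 K₀ _)) d
    have hcoh : Coh.IsCoh (cokernel L.1.arrow) := by
      rw [← liftSub_retr f E (w0 s0 (dual k k)) (wbase s0) sExt_dual (flatB f E hEf _) K₀ L]
      exact isCoh_liftSub f E (w0 s0 (dual k k)) (wbase s0) sExt_dual K₀ (Groth.L16.AffineBC.isCoh_pullback _ hE) _
    exact ⟨⟨⟨L.1, hcoh, L.2.1⟩, L.2.2⟩, hL⟩

theorem tg_smulMod_one (M : (PicF.XT f (Over.mk s0)).Modules) {B' A' : CommRingCat.{u}} (p' : B' ⟶ A')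
    (q' : A' ⟶ CommRingCat.of (base k k)) : smulMod M (tg f ((p' ≫ q') 1) s0) = 𝟙 M := by
  rw [map_one, smulMod_eq, show tg f (1 : CommRingCat.of (base k k)) s0 = 1 by simp only [tg, map_one],
    KLin.smulModΓ_one]

include hEf in
theorem tHom_scale (c : k) (L : Def0 f E s0 K₀ (dual k k)) :
    tHom f E s0 hEf K₀ (L.map f E s0 K₀ (scale c)) =
      smulMod (Subobject.underlying.obj K₀.1) (tg f (B := CommRingCat.of (base k k)) c s0) ≫ tHom f E s0 hEf K₀ L := by
  let M : Mor (rh (toBase (dual k k))) (rh (toBase (base k k))) (rh (toBase (dual k k))) (rh (toBase (base k k)))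
      (cst s0 (dual k k)) s0 (cst s0 (dual k k)) s0 :=
    { θ := rh (scale c), η := 𝟙 _
      sq := CommRingCat.hom_ext (RingHom.ext fun _ => rfl)
      res := Category.id_comp _
      hθ := wP s0 (scale c)
      hη := by rw [Spec.map_id, Category.id_comp] }
  have hη : FGA.quotPull f E M.gη K₀.1 = K₀.1 := by
    rw [show M.gη = 𝟙 (Over.mk s0) from Over.OverMorphism.ext (Spec.map_id _), quotPull_id]
  have htriv := congrArg (fun K => (K : Def0 f E s0 K₀ (dual k k)).1.1) (map_triv f E s0 K₀ (scale c : dual k k ⟶ _))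
  have hc : M.θ (eps (k := k)) = (show dual k k from (TrivSqZeroExt.inl c : TrivSqZeroExt k k)) * eps := by
    show ((tszeMap (c • LinearMap.id) : TrivSqZeroExt k k →ₐ[k] TrivSqZeroExt k k) (TrivSqZeroExt.inr (1 : k)) : TrivSqZeroExt k k) =
      TrivSqZeroExt.inl c * TrivSqZeroExt.inr (1 : k)
    refine TrivSqZeroExt.ext ?_ ?_ <;> simp
  refine (Mor.dif_eq f E (w0 s0 (dual k k)) (wbase s0) sExt_dual (flatB f E hEf _) K₀ (hKc_base f E s0 K₀)
    (w0 s0 (dual k k)) (wbase s0) M sExt_dual (flatB f E hEf _) K₀ (hKc_base f E s0 K₀) _ hc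
    (toLift f E s0 K₀ L) (toLift f E s0 K₀ (triv f E s0 K₀ _)) (toLift f E s0 K₀ (L.map f E s0 K₀ (scale c)))
    (toLift f E s0 K₀ (triv f E s0 K₀ _)) rfl htriv.symm hη).trans ?_
  rw [comp_smulMod]
  rfl

/-- The morphism of extensions of a map collapsing `ε₁` to `ε`. -/
def morTheta (θ : dual2 k k ⟶ dual k k) :
    Mor (rh (pr₂ : dual2 k k ⟶ dual k k)) (rh (toBase (dual k k))) (rh (toBase (dual k k)))
      (rh (toBase (base k k))) (cst s0 (dual2 k k)) (cst s0 (dual k k)) (cst s0 (dual k k)) s0 where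
  θ := rh θ
  η := rh (toBase (dual k k))
  sq := congrArg rh ((eq_toBase (pr₂ ≫ toBase (dual k k))).trans (eq_toBase (θ ≫ toBase (dual k k))).symm)
  res := congrArg rh (eq_toBase (toBase (dual k k) ≫ toBase (base k k)))
  hθ := wP s0 θ
  hη := w0 s0 (dual k k)

theorem hKc_pr₂ (L₂ : Def0 f E s0 K₀ (dual k k)) :
    Kc f E (p := rh (pr₂ : dual2 k k ⟶ dual k k)) (q := rh (toBase (dual k k))) (wP s0 pr₂)
      (w0 s0 (dual k k)) L₂.1 = K₀.1 :=
  (Kc_eq f E (wP s0 pr₂) (w0 s0 (dual k k)) sExt_pr₂ L₂.1).trans L₂.2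

/-- A deformation over `k[ε₁, ε₂]` as a lift of its second projection. -/
def lift₂ (L₂ : Def0 f E s0 K₀ (dual k k)) (z : Def0 f E s0 K₀ (dual2 k k))
    (h : z.map f E s0 K₀ pr₂ = L₂) : Lifts f E (p := rh (pr₂ : dual2 k k ⟶ dual k k)) (wP s0 pr₂) L₂.1 :=
  ⟨z.1.1, z.1.2.2, congrArg (fun K => (K : Def0 f E s0 K₀ (dual k k)).1.1) h⟩

theorem dif_theta (L₂ : Def0 f E s0 K₀ (dual k k)) (z z' : Def0 f E s0 K₀ (dual2 k k))
    (h : z.map f E s0 K₀ pr₂ = L₂) (h' : z'.map f E s0 K₀ pr₂ = L₂)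
    (θ : dual2 k k ⟶ dual k k) (hθ : θ.toAlgHom (eps₁ (k := k)) = eps) :
    dif f E (w0 s0 (dual k k)) (wbase s0) sExt_dual (flatB f E hEf _) K₀ (hKc_base f E s0 K₀)
        (toLift f E s0 K₀ (z.map f E s0 K₀ θ)) (toLift f E s0 K₀ (z'.map f E s0 K₀ θ)) =
      dif f E (wP s0 pr₂) (w0 s0 (dual k k)) sExt_pr₂ (flatB f E hEf _) L₂.1 (hKc_pr₂ f E s0 K₀ L₂)
        (lift₂ f E s0 K₀ L₂ z h) (lift₂ f E s0 K₀ L₂ z' h') := by
  have hη : FGA.quotPull f E (morTheta s0 θ).gη L₂.1.1 = K₀.1 := L₂.2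
  have hc : (morTheta s0 θ).θ (eps₁ (k := k)) = (1 : CommRingCat.of (dual k k)) * eps :=
    hθ.trans (one_mul (eps (k := k))).symm
  have h1 : (toLift f E s0 K₀ (z.map f E s0 K₀ θ)).1 =
      FGA.quotPull f E (morTheta s0 θ).gθ (lift₂ f E s0 K₀ L₂ z h).1 := rfl
  have h2 : (toLift f E s0 K₀ (z'.map f E s0 K₀ θ)).1 =
      FGA.quotPull f E (morTheta s0 θ).gθ (lift₂ f E s0 K₀ L₂ z' h').1 := rfl
  have e := Mor.dif_eq f E (wP s0 pr₂) (w0 s0 (dual k k)) sExt_pr₂ (flatB f E hEf _) L₂.1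
    (hKc_pr₂ f E s0 K₀ L₂) (w0 s0 (dual k k)) (wbase s0) (morTheta s0 θ) sExt_dual (flatB f E hEf _) K₀
    (hKc_base f E s0 K₀) 1 hc (lift₂ f E s0 K₀ L₂ z h) (lift₂ f E s0 K₀ L₂ z' h')
    (toLift f E s0 K₀ (z.map f E s0 K₀ θ)) (toLift f E s0 K₀ (z'.map f E s0 K₀ θ)) h1 h2 hη
  rw [e, tg_smulMod_one, Category.comp_id]

theorem cst_base : cst s0 (base k k) = s0 := by
  refine (congrArg (· ≫ s0) ?_).trans (Category.id_comp s0)
  rw [eq_toBase (ofBase (base k k)), specMap_toBase_base]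

theorem map_toBase_baseToDual (L : Def0 f E s0 K₀ (dual k k)) :
    L.map f E s0 K₀ (toBase (dual k k) ≫ baseToDual) = triv f E s0 K₀ _ := by
  refine Subtype.ext (Subtype.ext ?_)
  show FGA.quotPull f E (gp (toBase (dual k k) ≫ baseToDual) (wP s0 _)) L.1.1 =
    FGA.quotPull f E (gp (ofBase (dual k k)) rfl) K₀.1
  rw [quotPull_gp_comp f E (toBase (dual k k)) baseToDual (w0 s0 (dual k k))
    (show specMap baseToDual ≫ s0 = cst s0 (dual k k) by
      conv_lhs => rw [← cst_base s0]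
      exact wP s0 baseToDual) (wP s0 _) L.1.1, L.2]
  exact congrArg (fun g => FGA.quotPull f E g K₀.1) (Over.OverMorphism.ext rfl)

include hEf in
theorem tHom_plus (z : Def0 f E s0 K₀ (dual2 k k)) :
    tHom f E s0 hEf K₀ (z.map f E s0 K₀ plus) =
      tHom f E s0 hEf K₀ (z.map f E s0 K₀ pr₁) + tHom f E s0 hEf K₀ (z.map f E s0 K₀ pr₂) := by
  have hz₀ : ((z.map f E s0 K₀ pr₂).map f E s0 K₀ ι₂).map f E s0 K₀ pr₂ = z.map f E s0 K₀ pr₂ := by
    rw [Def0.map_map (p := ι₂), ι₂_pr₂, Def0.map_id]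
  have k1 := dif_theta f E s0 hEf K₀ _ z _ rfl hz₀ pr₁ (TrivSqZeroExt.ext rfl rfl)
  have k2 := dif_theta f E s0 hEf K₀ _ z _ rfl hz₀ plus (TrivSqZeroExt.ext rfl (add_zero (1 : k)))
  have e1 : ((z.map f E s0 K₀ pr₂).map f E s0 K₀ ι₂).map f E s0 K₀ pr₁ = triv f E s0 K₀ _ := by
    rw [Def0.map_map (p := ι₂), ι₂_pr₁, map_toBase_baseToDual]
  have e2 : ((z.map f E s0 K₀ pr₂).map f E s0 K₀ ι₂).map f E s0 K₀ plus = z.map f E s0 K₀ pr₂ := by
    rw [Def0.map_map (p := ι₂), ι₂_plus, Def0.map_id]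
  rw [e1] at k1
  rw [e2] at k2
  unfold tHom
  rw [dif_trans f E (w0 s0 (dual k k)) (wbase s0) sExt_dual (flatB f E hEf _) K₀ (hKc_base f E s0 K₀)
    (toLift f E s0 K₀ (z.map f E s0 K₀ plus)) (toLift f E s0 K₀ (z.map f E s0 K₀ pr₂)), k2, k1]

end Groth.L14.Quot
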